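import Cfsg.Agent.Lib.CoreComponents
import Cfsg.Agent.Lib.PGroupRankOne
import Cfsg.Agent.Lib.SylowIn
import Cfsg.Agent.Lib.Blk.BS
import Cfsg.Agent.Lib.FT.Main

/-!
# Groups without elements of order `2 r`

Reduction to the statement that a coprime automorphism of prime order of a non-abelian simple group
fixes an involution.
-/

set_option autoImplicit false

namespace CfsgLib.CO

open Subgroup Cfsg
open scoped commutatorElement

universe u

/-- every coprime automorphism of prime order of a non-abelian simple group fixes an involution -/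
def FixInv : Prop :=
  ∀ (X : Type u) [Group X] [Finite X] [IsSimpleGroup X], ¬ IsMulCommutative X →
    ∀ (a : MulAut X) (r : ℕ), r.Prime → a ^ r = 1 → ¬ r ∣ Nat.card X →
      ∃ t : X, orderOf t = 2 ∧ a t = t

/-- no element of order `2 r` -/
def NoOrd (r : ℕ) (G : Type*) [Group G] : Prop := ∀ g : G, orderOf g ≠ 2 * r

section basic

variable {G : Type*} [Group G] {r : ℕ}

theorem NoOrd.not_comm (h : NoOrd r G) (hr : r.Prime) (h2 : r ≠ 2) {t x : G} (ht : orderOf t = 2)
    (hx : orderOf x = r) : ¬ Commute t x := fun hc => h (t * x) (by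
  rw [hc.orderOf_mul_eq_mul_orderOf_of_coprime, ht, hx]
  rw [ht, hx]
  exact (Nat.coprime_primes Nat.prime_two hr).2 h2.symm)

theorem NoOrd.of_surjective [Finite G] (h : NoOrd r G) {Q : Type*} [Group Q] {f : G →* Q}
    (hf : Function.Surjective f) : NoOrd r Q := fun q hq => by
  obtain ⟨g, rfl⟩ := hf q
  have h1 : 2 * r ∣ orderOf g := hq ▸ orderOf_map_dvd f g
  exact h (g ^ (orderOf g / (2 * r))) (orderOf_pow_orderOf_div (orderOf_pos g).ne' h1)

theorem red_mul_self {t : G} (ht : orderOf t = 2) : t * t = 1 := by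
  rw [← sq, ← ht, pow_orderOf_eq_one]

theorem red_ne_one {t : G} (ht : orderOf t = 2) : t ≠ 1 := by
  rintro rfl
  simp at ht

theorem red_orderOf_two {t : G} (h1 : t * t = 1) (h2 : t ≠ 1) : orderOf t = 2 :=
  orderOf_eq_prime (by rw [sq, h1]) h2

/-- an involution inverts a normal elementary abelian `r`-subgroup -/
theorem NoOrd.inverts (h : NoOrd r G) (hr : r.Prime) (h2 : r ≠ 2) {V : Subgroup G} [hV : V.Normal]
    (hE : IsElementaryAbelian r V) {t : G} (ht : orderOf t = 2) {v : G} (hv : v ∈ V) :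
    t * v * t⁻¹ = v⁻¹ := by
  have := Fact.mk hr
  have hw : t * v * t⁻¹ ∈ V := hV.conj_mem v hv t
  have hc : v * (t * v * t⁻¹) = (t * v * t⁻¹) * v :=
    PGrp.isMulCommutative_iff_forall.1 hE.1 _ hv _ hw
  have htt := red_mul_self ht
  have hti : t⁻¹ = t := inv_eq_of_mul_eq_one_right htt
  by_contra hne
  refine h.not_comm hr h2 ht (x := v * (t * v * t⁻¹))
    (orderOf_eq_prime (hE.2 _ (mul_mem hv hw)) fun h1 => hne ?_) ?_
  · exact eq_inv_of_mul_eq_one_right h1
  · change t * (v * (t * v * t⁻¹)) = v * (t * v * t⁻¹) * t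
    rw [hti] at hc
    rw [hti]
    calc t * (v * (t * v * t)) = t * (t * v * t * v) := by rw [hc]
      _ = (t * t) * v * t * v := by group
      _ = v * t * v := by rw [htt, one_mul]
      _ = v * t * v * (t * t) := by rw [htt, mul_one]
      _ = (v * (t * v * t)) * t := by group

/-- with a non-trivial normal elementary abelian `r`-subgroup, `2`-subgroups have at most one
involution -/
theorem NoOrd.uniq [Finite G] (h : NoOrd r G) (hr : r.Prime) (h2 : r ≠ 2) {V : Subgroup G}
    [V.Normal] (hE : IsElementaryAbelian r V) (hne : V ≠ ⊥) {P : Subgroup G} (hP : IsPGroup 2 P)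
    {a b : G} (haP : a ∈ P) (hbP : b ∈ P) (ha : orderOf a = 2) (hb : orderOf b = 2) : a = b := by
  have := Fact.mk hr
  obtain ⟨⟨v, hv⟩, hv1⟩ := ne_bot_iff_exists_ne_one.1 hne
  have hv1' : v ≠ 1 := fun e => hv1 (Subtype.ext e)
  have hvo : orderOf v = r := orderOf_eq_prime (hE.2 v hv) hv1'
  have hc : Commute (a * b) v := by
    have e1 := h.inverts hr h2 hE hb hv
    have e2 := h.inverts hr h2 hE ha (inv_mem hv)
    change a * b * v = v * (a * b)
    calc a * b * v = a * (b * v * b⁻¹) * a⁻¹ * (a * b) := by group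
      _ = v * (a * b) := by rw [e1, e2, inv_inv]
  by_contra hab
  have hab1 : a * b ≠ 1 := fun e => hab (by
    rw [← mul_one a, ← red_mul_self hb, ← mul_assoc, e, one_mul])
  obtain ⟨k, hk⟩ := (IsPGroup.iff_orderOf.1 hP) ⟨a * b, mul_mem haP hbP⟩
  rw [← Subgroup.orderOf_coe] at hk
  have hk2 : 2 ∣ orderOf (a * b) := by
    change orderOf (a * b) = _ at hk
    rcases k with _ | k
    · exact absurd (orderOf_eq_one_iff.1 hk) hab1
    · rw [hk]; exact dvd_pow_self 2 (Nat.succ_ne_zero k)
  exact h.not_comm hr h2 (orderOf_pow_orderOf_div (orderOf_pos _).ne' hk2) hvo (hc.pow_left _)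

/-- a `2`-group with at most one involution has a cyclic subgroup of index at most two -/
theorem exists_cyc_index_two [Finite G] (hG : IsPGroup 2 G)
    (h : ∀ a b : G, orderOf a = 2 → orderOf b = 2 → a = b) :
    ∃ x : G, ∀ g k : G, g ∈ zpowers x ∨ k ∈ zpowers x ∨ g * k ∈ zpowers x := by
  rcases PGrp.isCyclic_or_quaternion_of_unique_involution hG h with hc | ⟨k, -, ⟨e⟩⟩
  · obtain ⟨x, hx⟩ := IsCyclic.exists_generator (α := G)
    exact ⟨x, fun g _ => Or.inl (hx g)⟩
  · obtain ⟨x, y, h1, -, -, -, h5⟩ := PGrp.exists_gens_of_mulEquiv_quaternionGroup e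
    have hi : (zpowers x).index = 2 := by
      have h6 := (zpowers x).card_mul_index
      rw [Nat.card_zpowers, h1, h5] at h6
      have hpos : 0 < 2 * 2 ^ k := by positivity
      exact Nat.eq_of_mul_eq_mul_left hpos (by rw [h6]; ring)
    refine ⟨x, fun g k => ?_⟩
    by_cases hg : g ∈ zpowers x
    · exact Or.inl hg
    by_cases hk : k ∈ zpowers x
    · exact Or.inr (Or.inl hk)
    exact Or.inr (Or.inr ((mul_mem_iff_of_index_two hi).2 (iff_of_false hg hk)))

/-- in each elementary abelian `2`-subgroup some `{1, z}` has index at most two -/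
def Rk2 (Q : Type*) [Group Q] : Prop :=
  ∀ E : Subgroup Q, (∀ e ∈ E, e * e = 1) → ∃ z : Q, ∀ g ∈ E, ∀ k ∈ E,
    (g = 1 ∨ g = z) ∨ (k = 1 ∨ k = z) ∨ (g * k = 1 ∨ g * k = z)

theorem eq_one_or_of_mem_zpowers {z g : G} (hz : z * z = 1) (hg : g ∈ zpowers z) :
    g = 1 ∨ g = z := by
  obtain ⟨n, rfl⟩ := mem_zpowers_iff.1 hg
  have h2 : z ^ (2 : ℤ) = 1 := by rw [zpow_two, hz]
  rcases Int.even_or_odd' n with ⟨m, rfl | rfl⟩
  · left; rw [zpow_mul, h2, one_zpow]
  · right; rw [zpow_add, zpow_mul, h2, one_zpow, one_mul, zpow_one]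

theorem rk2_of_uniq [Finite G] {Q : Type*} [Group Q] {f : G →* Q} (hf : Function.Surjective f)
    (h : ∀ P : Subgroup G, IsPGroup 2 P → ∀ a ∈ P, ∀ b ∈ P, orderOf a = 2 → orderOf b = 2 → a = b) :
    Rk2 Q := by
  intro E hE
  have : Finite Q := Finite.of_surjective f hf
  obtain ⟨P, hP⟩ := IsSylowIn.exists_in (p := 2) (E.comap f)
  have hE2 : IsPGroup 2 E := fun e => ⟨1, Subtype.ext (by simpa [sq] using hE e e.2)⟩
  have h1 := hP.map f
  rw [map_comap_eq_self_of_surjective hf] at h1
  have h2 : E = P.map f := h1.eq_of_le hE2 h1.le le_rfl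
  obtain ⟨x, hx⟩ := exists_cyc_index_two hP.isPGroup fun a b ha hb =>
    Subtype.ext (h P hP.isPGroup a a.2 b b.2 (by rwa [Subgroup.orderOf_coe])
      (by rwa [Subgroup.orderOf_coe]))
  have hz : f x * f x = 1 := hE _ (hP.le x.2)
  have key : ∀ y : P, y ∈ zpowers x → f y = 1 ∨ f y = f x := fun y hy => by
    refine eq_one_or_of_mem_zpowers hz ?_
    obtain ⟨n, rfl⟩ := mem_zpowers_iff.1 hy
    exact ⟨n, by simp⟩
  refine ⟨f x, fun g hg k hk => ?_⟩
  rw [h2] at hg hk
  obtain ⟨g, hg, rfl⟩ := hg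
  obtain ⟨k, hk, rfl⟩ := hk
  rcases hx ⟨g, hg⟩ ⟨k, hk⟩ with h3 | h3 | h3
  · exact Or.inl (key _ h3)
  · exact Or.inr (Or.inl (key _ h3))
  · exact Or.inr (Or.inr (by simpa using key _ h3))

end basic

theorem rk2_of_ker {r : ℕ} (hr : r.Prime) (h2 : r ≠ 2) {Q : Type*} [Group Q] (G : Type u) [Group G]
    [Finite G] : NoOrd r G → ∀ f : G →* Q, Function.Surjective f → Group.IsSolvable f.ker →
      r ∣ Nat.card f.ker → Rk2 Q := by
  refine card_induction (P := fun X _ _ => NoOrd r X → ∀ f : X →* Q, Function.Surjective f →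
    Group.IsSolvable f.ker → r ∣ Nat.card f.ker → Rk2 Q) ?_ G
  intro X _ _ ih h f hf hs hd
  have hne : f.ker ≠ ⊥ := fun e => by
    rw [e, card_bot] at hd
    exact hr.one_lt.ne' (Nat.dvd_one.1 hd)
  obtain ⟨M, hM, hMk⟩ := exists_isMinNormal_le f.ker hne
  have := hM.1
  obtain ⟨p, hp, hE⟩ := hM.exists_isElementaryAbelian (isSolvable_of_le hs hMk)
  by_cases hpr : p = r
  · subst hpr
    exact rk2_of_uniq hf fun P hP a ha b hb => h.uniq hp h2 hE hM.2.1 hP ha hb
  have := Fact.mk hp
  let f' : X ⧸ M →* Q := QuotientGroup.lift M f hMk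
  have hk : f'.ker = f.ker.map (QuotientGroup.mk' M) := QuotientGroup.ker_lift M f hMk
  refine ih (X ⧸ M) ?_ (h.of_surjective (QuotientGroup.mk'_surjective M)) f' ?_ ?_ ?_
  · rw [← index_eq_card]
    have h3 := M.card_mul_index
    have h4 : 1 < Nat.card M := (one_lt_card_iff_ne_bot M).2 hM.2.1
    have h5 : 0 < M.index := Nat.pos_of_ne_zero index_ne_zero_of_finite
    nlinarith
  · intro q
    obtain ⟨x, rfl⟩ := hf q
    exact ⟨x, rfl⟩
  · rw [hk]
    exact isSolvable_map hs _
  · obtain ⟨x, hx⟩ := @exists_prime_orderOf_dvd_card' _ _ _ r (Fact.mk hr) hd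
    have hx1 : ((x : X) : X ⧸ M) ≠ 1 := fun e => by
      have h3 := hE.2 _ ((QuotientGroup.eq_one_iff _).1 e)
      rw [← Subgroup.coe_pow, OneMemClass.coe_eq_one, ← orderOf_dvd_iff_pow_eq_one, hx] at h3
      exact hpr ((Nat.prime_dvd_prime_iff_eq hr hp).1 h3).symm
    have hx2 : ((x : X) : X ⧸ M) ∈ f'.ker := x.2
    have := Fact.mk hr
    have hx3 : orderOf (⟨_, hx2⟩ : f'.ker) = r := by
      refine orderOf_eq_prime (Subtype.ext ?_) fun e => hx1 (congrArg Subtype.val e)
      change ((x : X) : X ⧸ M) ^ r = 1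
      rw [← QuotientGroup.mk_pow, ← Subgroup.coe_pow, ← hx, pow_orderOf_eq_one]
      rfl
    exact hx3 ▸ orderOf_dvd_natCard _

/-- a non-abelian simple group has even order -/
theorem exists_inv_of_simple (X : Type u) [Group X] [Finite X] [IsSimpleGroup X]
    (h : ¬ IsMulCommutative X) : ∃ t : X, orderOf t = 2 := by
  refine exists_prime_orderOf_dvd_card' 2 ?_
  by_contra hodd
  have := FT.feit_thompson (G := X) (Nat.odd_iff.2 (by omega))
  exact h ⟨⟨IsSimpleGroup.comm_iff_isSolvable.2 this⟩⟩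

/-- a non-abelian simple group has two distinct commuting involutions -/
theorem exists_four_of_simple (X : Type u) [Group X] [Finite X] [IsSimpleGroup X]
    (h : ¬ IsMulCommutative X) :
    ∃ a b : X, orderOf a = 2 ∧ orderOf b = 2 ∧ a ≠ b ∧ b * a = a * b := by
  obtain ⟨t, ht⟩ := exists_inv_of_simple X h
  by_contra hn
  have h1 : Blk.UniqInv t := ⟨ht, fun s hs hc => by
    by_contra h2
    push Not at h2
    exact hn ⟨t, s, ht, orderOf_eq_prime hs h2.1, h2.2.symm, hc⟩⟩
  have h2 := Blk.brauer_suzuki X t h1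
  have h3 : pPrimeCore 2 X = ⊥ := by
    refine (inferInstance : (pPrimeCore 2 X).Normal).eq_bot_or_eq_top.resolve_right fun e => ?_
    refine not_dvd_card_pPrimeCore (G := X) 2 ?_
    rw [e, card_top]
    exact ht ▸ orderOf_dvd_natCard t
  have h4 : t ∈ center X := mem_center_iff.2 fun g => by
    have h5 := h2 g
    rw [h3, mem_bot, mul_inv_eq_one, mul_inv_eq_iff_eq_mul] at h5
    exact h5
  rcases (inferInstance : (center X).Normal).eq_bot_or_eq_top with h5 | h5
  · rw [h5, mem_bot] at h4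
    exact red_ne_one ht h4
  · exact h ⟨⟨fun a b => (mem_center_iff.1 (h5 ▸ mem_top b) a)⟩⟩

section comp

variable {Q : Type u} [Group Q] [Finite Q]

theorem comp_center (hF : fittingSubgroup Q = ⊥) {K : Subgroup Q} (hK : IsComponent K) {x : Q}
    (hx : x ∈ K) (hc : x ∈ centralizer (K : Set Q)) : x = 1 := by
  have h1 : ((center K).map K.subtype).IsSubnormal :=
    (Normal.isSubnormal (inferInstance : (center K).Normal)).trans' hK.1
  have h2 : Group.IsNilpotent ((center K).map K.subtype) :=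
    isNilpotent_map (isNilpotent_of_le fitting_isNilpotent center_le_fitting) _
  have h3 := le_fitting_of_isSubnormal h1 h2
  rw [hF] at h3
  exact mem_bot.1 (h3 ⟨⟨x, hx⟩, mem_center_iff.2 fun g => Subtype.ext (hc g g.2), rfl⟩)

theorem comp_simple (hF : fittingSubgroup Q = ⊥) {K : Subgroup Q} (hK : IsComponent K) :
    IsSimpleGroup K :=
  isSimpleGroup_of_isQuasisimple hK.2 (eq_bot_iff.2 fun x hx => mem_bot.2 (Subtype.ext
    (comp_center hF hK x.2 fun g hg =>
      congrArg Subtype.val (mem_center_iff.1 hx ⟨g, hg⟩))))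

omit [Finite Q] in
theorem comp_not_comm {K : Subgroup Q} (hK : IsComponent K) : ¬ IsMulCommutative K := fun h =>
  isComponent_not_le_centralizer hK (le_centralizer_iff_isMulCommutative.2 h)

theorem comp_cent {K L : Subgroup Q} (hK : IsComponent K) (hL : IsComponent L) (h : K ≠ L) :
    K ≤ centralizer (L : Set Q) :=
  commutator_eq_bot_iff_le_centralizer.1 ((isComponent_eq_or_commutator_eq_bot hK hL).resolve_left h)

theorem comp_inv (hF : fittingSubgroup Q = ⊥) {K : Subgroup Q} (hK : IsComponent K) :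
    ∃ t ∈ K, orderOf t = 2 := by
  have := comp_simple hF hK
  obtain ⟨t, ht⟩ := exists_inv_of_simple K (comp_not_comm hK)
  exact ⟨t, t.2, by rwa [Subgroup.orderOf_coe]⟩

theorem comp_eq_of_rk2 (hF : fittingSubgroup Q = ⊥) (hR : Rk2 Q) {K L : Subgroup Q}
    (hK : IsComponent K) (hL : IsComponent L) : K = L := by
  by_contra hne
  have := comp_simple hF hK
  obtain ⟨⟨a, haK⟩, ⟨b, hbK⟩, ha, hb, hab, hc⟩ := exists_four_of_simple K (comp_not_comm hK)
  rw [← Subgroup.orderOf_coe] at ha hb
  have hab' : a ≠ b := fun e => hab (Subtype.ext e)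
  have hc' : b * a = a * b := congrArg Subtype.val hc
  obtain ⟨c, hcL, hc2⟩ := comp_inv hF hL
  have hcK : c ∈ centralizer (K : Set Q) := comp_cent hL hK (Ne.symm hne) hcL
  have hcn : c ∉ K := fun h => red_ne_one hc2 (comp_center hF hK h hcK)
  have hcomm : ∀ x ∈ ({a, b, c} : Set Q), ∀ y ∈ ({a, b, c} : Set Q), x * y = y * x := by
    have e1 := hcK a haK
    have e2 := hcK b hbK
    rintro x (rfl | rfl | rfl) y (rfl | rfl | rfl) <;> simp only [*]
  have hsq : ∀ e ∈ closure ({a, b, c} : Set Q), e * e = 1 := by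
    intro e he
    induction he using closure_induction with
    | mem x hx =>
      rcases hx with rfl | rfl | rfl
      · exact red_mul_self ha
      · exact red_mul_self hb
      · exact red_mul_self hc2
    | one => exact one_mul 1
    | mul x y hx hy h1 h2 =>
      have h3 : y * x = x * y :=
        (closure_le (K := centralizer {x})).2 (fun u hu => mem_centralizer_singleton_iff.2
          ((closure_le (K := centralizer {u})).2 (fun v hv => mem_centralizer_singleton_iff.2
            (hcomm v hv u hu)) hx |> mem_centralizer_singleton_iff.1).symm) hy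
          |> mem_centralizer_singleton_iff.1
      calc x * y * (x * y) = x * (y * x) * y := by group
        _ = (x * x) * (y * y) := by rw [h3]; group
        _ = 1 := by rw [h1, h2, one_mul]
    | inv x hx h1 => rw [← mul_inv_rev, h1, inv_one]
  obtain ⟨z, hz⟩ := hR _ hsq
  have ma : a ∈ closure ({a, b, c} : Set Q) := subset_closure (by simp)
  have mb : b ∈ closure ({a, b, c} : Set Q) := subset_closure (by simp)
  have mc : c ∈ closure ({a, b, c} : Set Q) := subset_closure (by simp)
  by_cases hzK : z ∈ K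
  · have key : ∀ e ∈ closure ({a, b, c} : Set Q), e ∈ K → e ≠ 1 → e = z := by
      intro e he heK he1
      rcases hz e he c mc with (h1 | h1) | (h1 | h1) | (h1 | h1)
      · exact absurd h1 he1
      · exact h1
      · exact absurd h1 (red_ne_one hc2)
      · exact absurd (h1 ▸ hzK) hcn
      · exact absurd ((mul_mem_cancel_left heK).1 (h1 ▸ one_mem K)) hcn
      · exact absurd ((mul_mem_cancel_left heK).1 (h1 ▸ hzK)) hcn
    exact hab' ((key a ma haK (red_ne_one ha)).trans (key b mb hbK (red_ne_one hb)).symm)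
  · rcases hz a ma b mb with (h1 | h1) | (h1 | h1) | (h1 | h1)
    · exact red_ne_one ha h1
    · exact hzK (h1 ▸ haK)
    · exact red_ne_one hb h1
    · exact hzK (h1 ▸ hbK)
    · exact hab' (by rw [← mul_one a, ← red_mul_self hb, ← mul_assoc, h1, one_mul])
    · exact hzK (h1 ▸ mul_mem haK hbK)

/-- an element of prime order `r` which does not normalize a component centralizes an
involution -/
theorem exists_fix_of_not_norm (hF : fittingSubgroup Q = ⊥) {K : Subgroup Q} (hK : IsComponent K)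
    {r : ℕ} (hr : r.Prime) {x : Q} (hx : orderOf x = r) (hn : x ∉ normalizer (K : Set Q)) :
    ∃ s : Q, orderOf s = 2 ∧ Commute s x := by
  obtain ⟨t, htK, ht⟩ := comp_inv hF hK
  have hcen : ∀ n : ℕ, ¬ r ∣ n → x ^ n * t * (x ^ n)⁻¹ ∈ centralizer (K : Set Q) := by
    intro n hn'
    refine comp_cent (isComponent_map_conj hK (x ^ n)) hK (fun e => hn ?_) ⟨t, htK, rfl⟩
    have h1 : x ^ n ∈ normalizer (K : Set Q) := by
      rw [mem_normalizer_iff]
      intro h
      constructor
      · intro hh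
        exact e ▸ ⟨h, hh, rfl⟩
      · intro hh
        rw [← e] at hh
        obtain ⟨y, hy, e1⟩ := hh
        have e2 : y = h := (MulAut.conj (x ^ n)).injective e1
        exact e2 ▸ hy
    have h2 : x ∈ zpowers (x ^ n) := by
      rw [mem_zpowers_pow_iff, hx]
      exact ((Nat.Prime.coprime_iff_not_dvd hr).2 hn').symm
    exact zpowers_le.2 h1 h2
  have hone : ∀ n : ℕ, Commute t (x ^ n * t * (x ^ n)⁻¹) := by
    intro n
    by_cases h : r ∣ n
    · rw [orderOf_dvd_iff_pow_eq_one.1 (hx ▸ h)]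
      simp
    · exact hcen n h t htK
  have hall : ∀ i j : ℕ, Commute (x ^ i * t * (x ^ i)⁻¹) (x ^ j * t * (x ^ j)⁻¹) := by
    have hle : ∀ i k : ℕ, Commute (x ^ i * t * (x ^ i)⁻¹) (x ^ (i + k) * t * (x ^ (i + k))⁻¹) := by
      intro i k
      have h1 := (hone k).map (MulAut.conj (x ^ i))
      have e : MulAut.conj (x ^ i) (x ^ k * t * (x ^ k)⁻¹) = x ^ (i + k) * t * (x ^ (i + k))⁻¹ := by
        rw [MulAut.conj_apply, pow_add]; group
      rwa [e] at h1
    intro i j
    rcases le_total i j with h | h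
    · obtain ⟨k, rfl⟩ := Nat.exists_eq_add_of_le h
      exact hle i k
    · obtain ⟨k, rfl⟩ := Nat.exists_eq_add_of_le h
      exact (hle j k).symm
  have htt := red_mul_self ht
  have key : ∀ n : ℕ, n + 1 ≤ r → ∃ u ∈ centralizer (K : Set Q), u * u = 1 ∧
      (∀ j : ℕ, Commute u (x ^ j * t * (x ^ j)⁻¹)) ∧ (t * x) ^ (n + 1) = t * u * x ^ (n + 1) := by
    intro n
    induction n with
    | zero => exact fun _ => ⟨1, one_mem _, one_mul 1, fun j => Commute.one_left _, by simp⟩
    | succ n ih =>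
      intro hn'
      obtain ⟨u, hu, hu2, hu3, hu4⟩ := ih (by omega)
      refine ⟨u * (x ^ (n + 1) * t * (x ^ (n + 1))⁻¹), mul_mem hu (hcen _ fun h => ?_), ?_,
        fun j => (hu3 j).mul_left (hall _ j), ?_⟩
      · have := Nat.le_of_dvd (Nat.succ_pos n) h
        omega
      · have h1 := (hu3 (n + 1)).eq
        set w := x ^ (n + 1) * t * (x ^ (n + 1))⁻¹ with hw
        have h2 : w * w = 1 := by
          rw [hw]
          calc _ = x ^ (n + 1) * (t * t) * (x ^ (n + 1))⁻¹ := by group
            _ = 1 := by rw [htt]; group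
        calc u * w * (u * w) = u * (w * u) * w := by group
          _ = (u * u) * (w * w) := by rw [← h1]; group
          _ = 1 := by rw [hu2, h2, one_mul]
      · rw [pow_succ (t * x) (n + 1), hu4, pow_succ x (n + 1)]
        group
  obtain ⟨m, hm⟩ : ∃ m, r = m + 1 := ⟨r - 1, by have := hr.pos; omega⟩
  obtain ⟨u, hu, hu2, -, hu4⟩ := key m hm.ge
  rw [← hm, ← hx, pow_orderOf_eq_one, mul_one] at hu4
  have hut : t * u = u * t := hu t htK
  refine ⟨t * u, red_orderOf_two ?_ fun e => red_ne_one ht (comp_center hF hK htK ?_), ?_⟩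
  · calc t * u * (t * u) = t * (u * t) * u := by group
      _ = (t * t) * (u * u) := by rw [← hut]; group
      _ = 1 := by rw [htt, hu2, one_mul]
  · rw [eq_inv_of_mul_eq_one_left e]
    exact inv_mem hu
  · have h1 : Commute (t * u) (t * x) := hu4 ▸ (Commute.refl (t * x)).pow_left _
    have h2 : Commute (t * u) t := (Commute.refl t).mul_left (Commute.symm hut)
    have h3 := h2.inv_right.mul_right h1
    rwa [inv_mul_cancel_left] at h3

theorem comp_eq_of_dvd (hco : FixInv.{u}) (hF : fittingSubgroup Q = ⊥) {r : ℕ} (hr : r.Prime)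
    (h2 : r ≠ 2) (h : NoOrd r Q) (hd : r ∣ Nat.card Q) {K L : Subgroup Q}
    (hK : IsComponent K) (hL : IsComponent L) : K = L := by
  have := Fact.mk hr
  by_contra hne
  have hKr : ¬ r ∣ Nat.card K := fun hd' => by
    obtain ⟨x, hx⟩ := exists_prime_orderOf_dvd_card' r hd'
    obtain ⟨t, htL, ht⟩ := comp_inv hF hL
    exact h.not_comm hr h2 ht (x := x) (by rwa [Subgroup.orderOf_coe])
      (comp_cent hK hL hne x.2 t htL)
  obtain ⟨x, hx⟩ := exists_prime_orderOf_dvd_card' r hd
  by_cases hn : x ∈ normalizer (K : Set Q)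
  · have := comp_simple hF hK
    obtain ⟨t, ht, hat⟩ := hco K (comp_not_comm hK) (K.normalizerMonoidHom ⟨x, hn⟩) r hr (by
      rw [← map_pow]
      have e : (⟨x, hn⟩ : normalizer (K : Set Q)) ^ r = 1 :=
        Subtype.ext (by rw [Subgroup.coe_pow, ← hx, pow_orderOf_eq_one]; rfl)
      rw [e, map_one]) hKr
    refine h.not_comm hr h2 (t := t) (by rwa [Subgroup.orderOf_coe]) hx ?_
    have e : x * t * x⁻¹ = t := congrArg Subtype.val hat
    exact (mul_inv_eq_iff_eq_mul.1 e).symm
  · obtain ⟨s, hs, hc⟩ := exists_fix_of_not_norm hF hK hr hx hn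
    exact h.not_comm hr h2 hs hx hc

end comp

/-- the almost simple quotient of a non-solvable group without elements of order `2 r` -/
theorem almost_simple_of_fixInv (hco : FixInv.{u}) {G : Type u} [Group G] [Finite G]
    (hns : ¬ Group.IsSolvable G) {r : ℕ} (hr : r.Prime) (h2 : r ≠ 2) (hrG : r ∣ Nat.card G)
    (hno : ∀ g : G, orderOf g ≠ 2 * r) (R : Subgroup G) [R.Normal] (hRs : Group.IsSolvable R)
    (hRmax : ∀ N : Subgroup G, N.Normal → Group.IsSolvable N → N ≤ R) :
    ∃ S : Subgroup (G ⧸ R), S.Normal ∧ IsSimpleGroup S ∧ ¬ IsMulCommutative S ∧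
      centralizer (S : Set (G ⧸ R)) = ⊥ := by
  have hF : fittingSubgroup (G ⧸ R) = ⊥ := by
    have h1 := fitting_isNilpotent (G := G ⧸ R)
    have h3 := hRmax _ (Normal.comap fittingSubgroup_normal (QuotientGroup.mk' R))
      (isSolvable_comap_mk' hRs inferInstance)
    refine eq_bot_iff.2 fun q hq => ?_
    obtain ⟨g, rfl⟩ := QuotientGroup.mk'_surjective R q
    exact mem_bot.2 ((QuotientGroup.eq_one_iff g).2 (h3 hq))
  have huniq : ∀ K L : Subgroup (G ⧸ R), IsComponent K → IsComponent L → K = L := by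
    intro K L hK hL
    rw [card_eq_card_quotient_mul_card_subgroup R] at hrG
    rcases (Nat.Prime.dvd_mul hr).1 hrG with hd | hd
    · exact comp_eq_of_dvd hco hF hr h2
        (NoOrd.of_surjective hno (QuotientGroup.mk'_surjective R)) hd hK hL
    · refine comp_eq_of_rk2 hF (rk2_of_ker hr h2 G hno (QuotientGroup.mk' R)
        (QuotientGroup.mk'_surjective R) ?_ ?_) hK hL
      · rwa [QuotientGroup.ker_mk']
      · rwa [QuotientGroup.ker_mk']
  have hex : ∀ C : Subgroup (G ⧸ R), C.Normal → C ≠ ⊥ → ∃ K, IsComponent K ∧ K ≤ C := by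
    intro C hC hne
    refine (exists_component_or_inf_fitting_ne_bot hC.isSubnormal hne).resolve_right fun h => h ?_
    rw [hF, inf_bot_eq]
  obtain ⟨K, hK, -⟩ := hex ⊤ inferInstance fun e =>
    hns (isSolvable_of_normal_of_quotient R hRs (Group.isSolvable_of_top_eq_bot _ e))
  have hKn : K.Normal := ⟨fun n hn g =>
    huniq _ _ (isComponent_map_conj hK g) hK ▸ (⟨n, hn, rfl⟩ : g * n * g⁻¹ ∈ K.map _)⟩
  refine ⟨K, hKn, comp_simple hF hK, comp_not_comm hK, ?_⟩
  by_contra hne
  obtain ⟨L, hL, hLC⟩ := hex _ inferInstance hne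
  rw [huniq L K hL hK] at hLC
  exact isComponent_not_le_centralizer hK hLC

end CfsgLib.CO
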