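import Cfsg.Agent.Lib.CO.Defs
import Cfsg.Agent.Lib.CO.Red
import Cfsg.Agent.Lib.IG.Red

set_option autoImplicit false

namespace CfsgLib.CO

open Subgroup Cfsg CfsgLib.FT CfsgLib.FT.BGN CfsgLib.GW CfsgLib.Wal

universe u

attribute [local instance] Cit.factTwo

/-- No minimal counterexample in universe `u` (this is `CO0.false`, file `Main`). -/
def NoCO0 : Prop := ∀ (X : Type u) [Group X] [Finite X] (G T : Subgroup X) (a : X) (r : ℕ),
  CO0 G T a r → False

/-- Theorem A. -/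
def ThmA : Prop := ∀ (X : Type u) [Group X] [Finite X] (G : Subgroup X) (a : X) (r : ℕ),
  r.Prime → a ^ r = 1 → a ∈ 𝐍(G) → ¬ r ∣ Nat.card G →
    (∀ z ∈ G, z * z = 1 → z * a = a * z → z = 1) → Group.IsSolvable G

/-- Theorem A for groups of order `n`. -/
def ThmAn (n : ℕ) : Prop :=
  ∀ (X : Type u) [Group X] [Finite X] (G : Subgroup X) (a : X) (r : ℕ), Nat.card G = n →
    r.Prime → a ^ r = 1 → a ∈ 𝐍(G) → ¬ r ∣ Nat.card G →
      (∀ z ∈ G, z * z = 1 → z * a = a * z → z = 1) → Group.IsSolvable G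

section

variable {X : Type u} [Group X] [Finite X] {G : Subgroup X} {a : X} {r : ℕ}

theorem a0_odd (hf : ∀ z ∈ G, z * z = 1 → z * a = a * z → z = 1) {c : X} (hc : c ∈ G)
    (h : Commute c a) : Odd (orderOf c) := by
  refine Nat.not_even_iff_odd.1 fun he => ?_
  have h1 := orderOf_pow_orderOf_div (orderOf_pos c).ne' he.two_dvd
  exact ne_one_of_inv h1 (hf _ (pow_mem hc _) (mul_self_of_inv h1) (h.pow_left _))

omit [Finite X] in
theorem a0_prod {L : Subgroup X} [hG : G.Normal] {t : X} (ht : t ∈ G)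
    (h : ∀ j, 0 < j → j < r → a ^ j * t * (a ^ j)⁻¹ ∈ 𝐂(L)) (n : ℕ) (hn : n < r) :
    ∃ c ∈ 𝐂(L) ⊓ G, (t * a) ^ (n + 1) = t * c * a ^ (n + 1) := by
  induction n with
  | zero => exact ⟨1, one_mem _, by simp⟩
  | succ n ih =>
    obtain ⟨c, hc, e⟩ := ih (by omega)
    refine ⟨c * (a ^ (n + 1) * t * (a ^ (n + 1))⁻¹),
      mul_mem hc ⟨h _ n.succ_pos hn, hG.conj_mem t ht _⟩, ?_⟩
    rw [pow_succ, e, pow_succ a (n + 1)]
    group

theorem a0_step (h : NoCO0.{u}) (ih : ∀ m < Nat.card G, ThmAn.{u} m) (hr : r.Prime)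
    (ha : a ^ r = 1) (hn : a ∈ 𝐍(G)) (hd : ¬ r ∣ Nat.card G)
    (hf : ∀ z ∈ G, z * z = 1 → z * a = a * z → z = 1) (hs : G ⊔ zpowers a = ⊤) :
    Group.IsSolvable G := by
  by_contra hns
  haveI := Fact.mk hr
  haveI hG : G.Normal :=
    normalizer_eq_top_iff.1 (eq_top_iff.2 (hs ▸ sup_le le_normalizer (zpowers_le.2 hn)))
  have hev : ¬ Odd (Nat.card G) := fun e => hns (solvable_of_odd e)
  have h2 : r ≠ 2 := by
    rintro rfl
    exact hd (Nat.not_odd_iff_even.1 hev).two_dvd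
  have ho : orderOf a = r := orderOf_eq_prime ha (by
    rintro rfl
    obtain ⟨t, ht, h3⟩ := exists_inv_of_not_odd hev
    exact ne_one_of_inv h3 (hf t ht (mul_self_of_inv h3) (by simp)))
  have hA : IsPGroup r (zpowers a) := IsPGroup.of_card (n := 1) (by rw [Nat.card_zpowers, ho, pow_one])
  have hi : G.index ∣ r := by
    rw [← relIndex_top_right, ← hs, sup_comm, relIndex_sup_right, ← ho, ← Nat.card_zpowers]
    exact relIndex_dvd_card _ _
  have hi2 : ¬ 2 ∣ G.index := fun e =>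
    h2 ((Nat.prime_dvd_prime_iff_eq Nat.prime_two hr).1 (e.trans hi)).symm
  have sol : ∀ H : Subgroup X, H < G → a ∈ 𝐍(H) → Group.IsSolvable H := fun H h3 h4 =>
    ih _ (card_lt_card_of_lt h3) X H a r rfl hr ha h4 (fun e => hd (e.trans (card_dvd_of_le h3.le)))
      fun z hz => hf z (h3.le hz)
  have mn : ∀ N ≤ G, N.Normal → N ≠ ⊥ → N = G := by
    intro N h3 h4 h5
    by_contra h6
    have h7 := sol N (lt_of_le_of_ne h3 h6) (IG.mem_norm_of_normal h4 a)
    let f := QuotientGroup.mk' N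
    have hk : f.ker = N := QuotientGroup.ker_mk' N
    have h8 : Nat.card (G.map f) * Nat.card N = Nat.card G := by
      rw [← relIndex_ker, hk, ← Nat.card_congr (subgroupOfEquivOfLe h3).toEquiv, mul_comm]
      exact card_mul_index _
    have h9 : Group.IsSolvable (G.map f) := by
      refine ih _ ?_ _ (G.map f) (f a) r rfl hr (by rw [← map_pow, ha, map_one])
        (le_normalizer_map f ⟨a, hn, rfl⟩) (fun e => hd (h8 ▸ e.mul_right _)) ?_
      · rw [← h8]
        exact lt_mul_of_one_lt_right Nat.card_pos (one_lt_card_iff_ne_bot N |>.2 h5)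
      · rintro _ ⟨z, hz, rfl⟩ h10 h11
        obtain ⟨c, hc, e⟩ := H5.centralizer_map_le_of_coprime f (QuotientGroup.mk'_surjective N)
          (p := r) (by
            rw [hk]
            exact (hr.coprime_iff_not_dvd.2 fun e => hd (e.trans (card_dvd_of_le h3))).symm) hA
          (x := f z) (by
            rw [MonoidHom.map_zpowers, U4.cent_zpowers]
            exact mem_centralizer_singleton_iff.2 h11)
        have hcG : c ∈ G := by
          have : c * z⁻¹ ∈ G := h3 (hk ▸ (by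
            rw [MonoidHom.mem_ker, map_mul, map_inv, e, mul_inv_cancel] : c * z⁻¹ ∈ f.ker))
          simpa using mul_mem this hz
        exact eq_one_of_odd_of_mul_self ((a0_odd hf hcG (hc a (mem_zpowers a)).symm).of_dvd_nat
          (e ▸ orderOf_map_dvd f c)) h10
    refine hns (solvable_of_ker_le_range (inclusion h3) (f.subgroupMap G) fun x hx => ?_)
    exact ⟨⟨x, hk ▸ (congrArg Subtype.val hx : f x = 1)⟩, rfl⟩
  have two : ∀ A : Subgroup X, IsPGroup 2 A → A ≤ G := fun A h3 x hx => by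
    obtain ⟨k, hk⟩ := IsPGroup.iff_orderOf.1 h3 ⟨x, hx⟩
    have h4 : orderOf ((x : X ⧸ G)) = 1 := Nat.eq_one_of_dvd_coprimes
      ((Nat.prime_two.coprime_iff_not_dvd.2 hi2).pow_left k)
      (by rw [← hk, ← orderOf_coe]; exact orderOf_map_dvd (QuotientGroup.mk' G) x)
      (orderOf_dvd_natCard _)
    exact (QuotientGroup.eq_one_iff x).1 (orderOf_eq_one_iff.1 h4)
  have key : ∀ L ≤ G, G ≤ 𝐍(L) → HasNormalPComplement 2 L → L = ⊥ := fun L h3 h4 =>
    IG.eq_bot_of_hnpc (K := G) (fun A b1 b2 b3 => by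
        by_contra b4
        exact hev (mn A b1 b2 b4 ▸ b3))
      (fun A b1 b2 => by
        by_contra b4
        have := (mn A (two A b2) b1 b4 ▸ b2 : IsPGroup 2 G).isNilpotent
        exact hns inferInstance) le_rfl h3 h4
  have hG0 : G ≠ ⊥ := fun e => hev (by simp [e])
  have hsim : ∀ L ≤ G, G ≤ 𝐍(L) → L ≠ ⊥ → L = G := by
    intro L₀ a1 a2 a3
    obtain ⟨L, ⟨b1, b2, b3⟩, hL⟩ := (wellFounded_lt (α := Subgroup X)).has_min
      {L | L ≤ L₀ ∧ G ≤ 𝐍(L) ∧ L ≠ ⊥} ⟨L₀, le_rfl, a2, a3⟩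
    have b4 := b1.trans a1
    have mL : ∀ Y ≤ L, G ≤ 𝐍(Y) → Y ≠ ⊥ → Y = L := fun Y c1 c2 c3 =>
      eq_of_le_of_not_lt c1 (hL _ ⟨c1.trans b1, c2, c3⟩)
    suffices a ∈ 𝐍(L) from le_antisymm a1 ((mn L b4 (normalizer_eq_top_iff.1
      (eq_top_iff.2 (hs ▸ sup_le b2 (zpowers_le.2 this)))) b3).ge.trans b1)
    by_contra hg
    obtain ⟨t, ht, ht2⟩ := exists_inv_of_not_odd (H := L) fun c5 =>
      b3 (key L b4 b2 (PCompl.hnpc_of_coprime (Nat.coprime_two_right.2 c5)))
    have c0 : ∀ j, 0 < j → j < r → a ^ j * t * (a ^ j)⁻¹ ∈ 𝐂(L) := by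
      intro j j1 j2
      have hj : a ^ j ∉ 𝐍(L) := fun e => hg (zpowers_le.2 e (mem_zpowers_pow_iff.2 (by
        rw [ho]
        exact (Nat.coprime_of_lt_prime j1.ne' j2 hr).symm)))
      generalize a ^ j = g at hj
      have hgN : g •ᶜ G = G := Cit.cj_eq (IG.mem_norm_of_normal hG g)
      have c1 : g •ᶜ L ≤ G := hgN ▸ map_mono b4
      have c2 : G ≤ 𝐍(g •ᶜ L) := by
        rw [Cit.norm_cj, ← hgN]
        exact map_mono b2
      have c3 : L ⊓ g •ᶜ L = ⊥ := by
        by_contra c4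
        refine hj (Cit.mem_norm (eq_of_le_of_card_ge (inf_eq_left.1
          (mL _ inf_le_left (H1.le_normalizer_inf b2 c2) c4)) ?_).symm)
        rw [card_map_of_injective (MulAut.conj g).injective]
      have hv : g * t * g⁻¹ ∈ g •ᶜ L := Cit.cj_mem ht
      generalize g * t * g⁻¹ = v at hv
      intro x hx
      have c5 : x * v * x⁻¹ * v⁻¹ ∈ L ⊓ g •ᶜ L :=
        ⟨by simpa [mul_assoc] using mul_mem hx (Cit.cmem (b2 (c1 hv)) (inv_mem hx)),
          (g •ᶜ L).mul_mem (Cit.cmem (c2 (b4 hx)) hv) (inv_mem hv)⟩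
      rw [c3, mem_bot, mul_inv_eq_one, mul_inv_eq_iff_eq_mul] at c5
      exact c5
    obtain ⟨c, hc, e⟩ := a0_prod (b4 ht) c0 (r - 1) (Nat.sub_one_lt hr.ne_zero)
    rw [Nat.sub_add_cancel hr.one_le, ha, mul_one] at e
    have d1 : Commute t c := hc.1 t ht
    have d2 : Commute (t * c) a := by
      have := ((Commute.refl t).mul_left d1.symm).inv_right.mul_right
        (e ▸ (Commute.refl (t * a)).pow_left r)
      rwa [inv_mul_cancel_left] at this
    obtain ⟨k, hk⟩ := a0_odd hf (mul_mem (b4 ht) hc.2) d2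
    have d3 := pow_orderOf_eq_one (t * c)
    rw [d1.mul_pow, hk, pow_succ, pow_mul, sq, mul_self_of_inv ht2, one_pow, one_mul,
      mul_eq_one_iff_eq_inv] at d3
    have d4 := mL (L ⊓ 𝐂(L)) inf_le_left (H1.le_normalizer_inf b2
      (b2.trans (FrobNPC.normalizer_le_normalizer_centralizer L))) fun e' => ne_one_of_inv ht2
        (mem_bot.1 (e' ▸ ⟨ht, d3 ▸ (𝐂(L)).inv_mem (pow_mem hc.1 _)⟩))
    have : IsMulCommutative L := ⟨⟨fun x y => Subtype.ext ((d4.ge y.2).2 x x.2)⟩⟩
    exact b3 (key L b4 b2 PCompl.hnpc_of_isMulCommutative)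
  obtain ⟨T, hT, hTa⟩ := FT.exists_inv_sylow 2 (zpowers_le.2 hn) (by
    rw [Nat.card_zpowers, ho]; exact hr.coprime_iff_not_dvd.2 hd) (Or.inl inferInstance)
  have := (nontrivial_iff_ne_bot G).2 hG0
  refine h X G T a r ⟨hr, h2, ho, hG, ⟨fun H hH => or_iff_not_imp_left.2 fun h0 => ?_⟩,
    fun hc => hG0 (key G le_rfl le_normalizer PCompl.hnpc_of_isMulCommutative), hs, hd,
    ⟨le_top, hT.isPGroup, fun e => ?_⟩, hT.le, hTa (mem_zpowers a),
    fun z hz => hf z (two _ (Cit.isPGroup_of_sq (Cit.sq_zpowers hz)) (mem_zpowers z)) hz, sol⟩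
  · have := hsim _ (map_subtype_le H) (fun g hg => le_normalizer_map G.subtype
      ⟨⟨g, hg⟩, IG.mem_norm_of_normal hH _, rfl⟩)
      (by rwa [Ne, map_eq_bot_iff_of_injective _ G.subtype_injective])
    exact map_injective G.subtype_injective (this.trans (by simp [← MonoidHom.range_eq_map]))
  · rw [relIndex_top_right, ← relIndex_mul_index hT.le] at e
    exact (Nat.prime_two.dvd_mul.1 e).elim hT.not_dvd hi2

end

theorem thmA_of_noCO0 (h : NoCO0.{u}) : ThmA.{u} := by
  have key : ∀ n, ThmAn.{u} n := by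
    intro n
    induction n using Nat.strong_induction_on with
    | _ n ih =>
    intro X _ _ G a r hc hr ha hn hd hf
    have h1 : G ≤ G ⊔ zpowers a := le_sup_left
    have h2 : a ∈ G ⊔ zpowers a := mem_sup_right (mem_zpowers a)
    have e := subgroupOfEquivOfLe h1
    have h3 := Nat.card_congr e.toEquiv
    have := a0_step (G := G.subgroupOf (G ⊔ zpowers a)) (a := ⟨a, h2⟩) h (by rwa [h3, hc]) hr
      (Subtype.ext ha) (le_normalizer_comap _ hn) (by rwa [h3])
      (fun z hz b1 b2 => Subtype.ext (hf z hz (congrArg Subtype.val b1) (congrArg Subtype.val b2)))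
      (map_injective (G ⊔ zpowers a).subtype_injective (by
        rw [Subgroup.map_sup, subgroupOf_map_subtype, inf_eq_left.2 h1, MonoidHom.map_zpowers,
          ← MonoidHom.range_eq_map, range_subtype]
        rfl))
    exact solvable_of_solvable_injective (f := e.symm.toMonoidHom) e.symm.injective
  exact fun X _ _ G a r => key _ X G a r rfl

theorem fixInv_of_thmA (h : ThmA.{u}) : FixInv.{u} := by
  intro X _ _ _ hna a r hr ha hd
  by_contra! hc
  let φ : zpowers a →* MulAut X := (zpowers a).subtype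
  have : Finite (X ⋊[φ] zpowers a) := Finite.of_equiv _ SemidirectProduct.equivProd.symm
  have e := MonoidHom.ofInjective (SemidirectProduct.inl_injective (φ := φ))
  have := h (X ⋊[φ] zpowers a) SemidirectProduct.inl.range
    (SemidirectProduct.inr ⟨a, mem_zpowers a⟩) r hr
    (by rw [← map_pow, show (⟨a, mem_zpowers a⟩ : zpowers a) ^ r = 1 from Subtype.ext ha, map_one])
    (IG.mem_norm_of_normal (by rw [SemidirectProduct.range_inl_eq_ker_rightHom]; infer_instance) _)
    (by rwa [← Nat.card_congr e.toEquiv]) (by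
      rintro _ ⟨z, rfl⟩ h1 h2
      rw [← map_mul, ← map_one SemidirectProduct.inl, SemidirectProduct.inl_inj] at h1
      by_contra h3
      refine hc z (inv_of_mul_self h1 fun e => h3 (by rw [e, map_one])) ?_
      simpa [φ] using (congrArg SemidirectProduct.left h2).symm)
  exact hna ⟨⟨IsSimpleGroup.comm_iff_isSolvable.2
    (solvable_of_solvable_injective (f := e.toMonoidHom) e.injective)⟩⟩

end CfsgLib.CO
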