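import Cfsg.Agent.Lib.CO.Defs

set_option autoImplicit false
set_option linter.unusedSectionVars false
set_option linter.unusedVariables false

namespace CfsgLib.CO

open Subgroup Cfsg CfsgLib.FT CfsgLib.FT.BGN CfsgLib.GW CfsgLib.Wal
open CfsgLib.FT.U4 (mem_cent1 mem_cent1' mem_cent mem_cent1_comm cent1_conj conj_mem_conj_iff
  orderOf_conj conj_le_iff le_conj_iff conj_inj)
open scoped commutatorElement

variable {X : Type*} [Group X] [Finite X] {G T : Subgroup X} {a : X} {r : ℕ}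

theorem lcc {A B : Subgroup X} (h : A ≤ 𝐂(B)) : B ≤ 𝐂(A) := le_centralizer_iff.1 h

theorem cent_anti {A B : Subgroup X} (h : A ≤ B) : 𝐂(B) ≤ 𝐂(A) := centralizer_le h

theorem cj_cent {A B : Subgroup X} (h : A ≤ 𝐂(B)) (g : X) : g •ᶜ A ≤ 𝐂(g •ᶜ B) := by
  rw [centralizer_map_conj]; exact map_mono h

theorem cj_norm {A B : Subgroup X} (h : A ≤ 𝐍(B)) (g : X) : g •ᶜ A ≤ 𝐍(g •ᶜ B) := by
  rw [normalizer_map_conj]; exact map_mono h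

theorem cj_eq {g : X} {H : Subgroup X} (hg : g ∈ 𝐍(H)) : g •ᶜ H = H :=
  CfsgLib.map_conj_eq_of_mem_normalizer hg

theorem mem_norm_of_cj {g : X} {H : Subgroup X} (hg : g •ᶜ H = H) : g ∈ 𝐍(H) :=
  CfsgLib.mem_normalizer_of_map_conj_eq hg

theorem mem_norm_of_cj_le {g : X} {H : Subgroup X} (hg : g •ᶜ H ≤ H) : g ∈ 𝐍(H) :=
  mem_norm_of_cj (eq_of_le_of_card_ge hg (by rw [CfsgLib.card_map_conj]))

theorem cj_mem {g x : X} {H : Subgroup X} (h : x ∈ H) : g * x * g⁻¹ ∈ g •ᶜ H :=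
  conj_mem_conj_iff.2 h

theorem norm_mem {g x : X} {H : Subgroup X} (hg : g ∈ 𝐍(H)) (h : x ∈ H) : g * x * g⁻¹ ∈ H :=
  (mem_normalizer_iff.1 hg x).1 h

theorem Om_le (T : Subgroup X) : Om T ≤ T := fun _ h => h.1

theorem Om_le_cent (T : Subgroup X) : Om T ≤ 𝐂(T) := fun _ h => h.2.1

theorem le_cent_Om (T : Subgroup X) : T ≤ 𝐂(Om T) := lcc (Om_le_cent T)

theorem Om_el (T : Subgroup X) : El (Om T) := fun _ h => h.2.2

theorem Om_cj (T : Subgroup X) (g : X) : Om (g •ᶜ T) = g •ᶜ Om T := by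
  ext x
  rw [mem_Om, centralizer_map_conj, mem_map_conj_iff, mem_map_conj_iff, mem_map_conj_iff, mem_Om]
  have : g⁻¹ * x * g * (g⁻¹ * x * g) = 1 ↔ x * x = 1 := by
    have h1 : g⁻¹ * x * g * (g⁻¹ * x * g) = g⁻¹ * (x * x) * g := by group
    rw [h1]
    constructor
    · intro h
      calc x * x = g * (g⁻¹ * (x * x) * g) * g⁻¹ := by group
        _ = 1 := by rw [h]; group
    · intro h; rw [h]; group
  rw [this]

theorem norm_le_norm_Om (T : Subgroup X) : 𝐍(T) ≤ 𝐍(Om T) := fun g hg =>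
  mem_norm_of_cj (by rw [← Om_cj, cj_eq hg])

theorem pt_Om (T : Subgroup X) : Pt T (Om T) := ⟨1, (map_conj_one _).symm⟩

theorem Pt.cj {φ : Subgroup X} (h : Pt T φ) (g : X) : Pt T (g •ᶜ φ) := by
  obtain ⟨k, rfl⟩ := h
  exact ⟨g * k, (map_conj_mul g k _).symm⟩

theorem Pt.el {φ : Subgroup X} (h : Pt T φ) : El φ := by
  obtain ⟨k, rfl⟩ := h
  exact (Om_el T).cj k

theorem Pt.card {φ : Subgroup X} (h : Pt T φ) : Nat.card φ = Nat.card (Om T) := by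
  obtain ⟨k, rfl⟩ := h
  exact CfsgLib.card_map_conj k _

theorem Bad.cj {D : Subgroup X} (h : Bad T D) (g : X) : Bad T (g •ᶜ D) := by
  obtain ⟨h1, φ, ψ, h2, h3, h4, h5, h6, h7⟩ := h
  exact ⟨h1.map _, g •ᶜ φ, g •ᶜ ψ, h2.cj g, h3.cj g, fun e => h4 (conj_inj.1 e), cj_cent h5 g,
    cj_cent h6 g, cj_cent h7 g⟩

theorem Bad.mono {D D' : Subgroup X} (h : Bad T D) (h' : D' ≤ D) : Bad T D' := by
  obtain ⟨h1, φ, ψ, h2, h3, h4, h5, h6, h7⟩ := h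
  exact ⟨h1.to_le h', φ, ψ, h2, h3, h4, h5, h'.trans h6, h'.trans h7⟩

theorem KK_bdd (T : Subgroup X) :
    BddAbove {n | ∃ A : Subgroup X, El A ∧ Bad T A ∧ Nat.card A = n} := by
  refine ⟨Nat.card X, ?_⟩
  rintro _ ⟨A, -, -, rfl⟩
  exact A.card_le_card_group

theorem Bad.card_le {A : Subgroup X} (h : Bad T A) (hA : El A) : Nat.card A ≤ KK T :=
  le_csSup (KK_bdd T) ⟨A, hA, h, rfl⟩

theorem el_bot : El (⊥ : Subgroup X) := fun x hx => by rw [mem_bot.1 hx, one_mul]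

theorem Bad.exists_BB {D : Subgroup X} (h : Bad T D) : ∃ A, BB T A := by
  have hne : {n | ∃ A : Subgroup X, El A ∧ Bad T A ∧ Nat.card A = n}.Nonempty :=
    ⟨_, ⊥, el_bot, h.mono bot_le, rfl⟩
  obtain ⟨A, h1, h2, h3⟩ := Nat.sSup_mem hne (KK_bdd T)
  exact ⟨A, h1, h2, h3⟩

theorem BB.cj {A : Subgroup X} (h : BB T A) (g : X) : BB T (g •ᶜ A) :=
  ⟨h.1.cj g, h.2.1.cj g, by rw [CfsgLib.card_map_conj]; exact h.2.2⟩

theorem BB.of_le {A : Subgroup X} (hA : El A) (h : Bad T A) (hc : KK T ≤ Nat.card A) :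
    BB T A := ⟨hA, h, le_antisymm (h.card_le hA) hc⟩

theorem WB_le_of {D Y : Subgroup X} (h : ∀ A, BB T A → A ≤ D → A ≤ Y) : WB T D ≤ Y :=
  sSup_le fun A hA => h A hA.1 hA.2

theorem WB_le (T D : Subgroup X) : WB T D ≤ D := WB_le_of fun _ _ h => h

theorem BB.le_WB {A D : Subgroup X} (h : BB T A) (h' : A ≤ D) : A ≤ WB T D :=
  le_sSup (show A ∈ {A | BB T A ∧ A ≤ D} from ⟨h, h'⟩)

theorem WB_mono {D D' : Subgroup X} (h : D ≤ D') : WB T D ≤ WB T D' :=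
  WB_le_of fun _ h1 h2 => h1.le_WB (h2.trans h)

theorem WB_idem (T D : Subgroup X) : WB T (WB T D) = WB T D :=
  le_antisymm (WB_le _ _) (WB_le_of fun _ h1 h2 => h1.le_WB (h1.le_WB h2))

theorem WB_cj_le (T D : Subgroup X) (g : X) : WB T (g •ᶜ D) ≤ g •ᶜ WB T D :=
  WB_le_of fun A h1 h2 => le_conj_iff.2 ((h1.cj g⁻¹).le_WB (le_conj_iff.1 h2))

theorem WB_cj (T D : Subgroup X) (g : X) : WB T (g •ᶜ D) = g •ᶜ WB T D := by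
  refine le_antisymm (WB_cj_le T D g) (conj_le_iff.2 ?_)
  have := WB_cj_le T (g •ᶜ D) g⁻¹
  rwa [map_conj_inv_map_conj] at this

theorem norm_le_norm_WB (T D : Subgroup X) : 𝐍(D) ≤ 𝐍(WB T D) := fun g hg =>
  mem_norm_of_cj (by rw [← WB_cj, cj_eq hg])

theorem exists_BB_le_of_ne_bot {D : Subgroup X} (h : WB T D ≠ ⊥) : ∃ A, BB T A ∧ A ≤ D := by
  by_contra hn
  push Not at hn
  exact h (le_bot_iff.1 (WB_le_of fun A h1 h2 => absurd h2 (hn A h1)))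

theorem syl_cj (hT : IsSylowIn 2 T ⊤) (g : X) : IsSylowIn 2 (g •ᶜ T) ⊤ :=
  hT.map_conj_of_mem_normalizer (le_normalizer (mem_top g))

theorem cj_le_cent_Om (T : Subgroup X) (g : X) : g •ᶜ T ≤ 𝐂(g •ᶜ Om T) :=
  cj_cent (le_cent_Om T) g

/-- (b1) -/
theorem Pt.le_cent (hT : IsSylowIn 2 T ⊤) {φ D : Subgroup X} (h : Pt T φ) (hD : IsPGroup 2 D)
    (hN : D ≤ 𝐍(φ)) : D ≤ 𝐂(φ) := by
  obtain ⟨g, rfl⟩ := h
  have h1 := cj_le_cent_Om T g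
  have h2 : IsSylowIn 2 (g •ᶜ T) 𝐍(g •ᶜ Om T) :=
    (syl_cj hT g).mono (h1.trans (cent_le_norm _)) le_top
  obtain ⟨x, hx, hle⟩ := h2.exists_conj_le hD hN
  have h3 := cj_cent (hle.trans h1) x⁻¹
  rwa [map_conj_inv_map_conj, cj_eq (inv_mem hx)] at h3

theorem isPGroup_zpowers_of_pow {y : X} {k : ℕ} (h : y ^ 2 ^ k = 1) : IsPGroup 2 (zpowers y) := by
  refine IsPGroup.of_card_dvd_pow (n := k) ?_
  rw [Nat.card_zpowers]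
  exact orderOf_dvd_of_pow_eq_one h

theorem exists_odd_pow (g : X) : ∃ k m : ℕ, Odd m ∧ (g ^ m) ^ 2 ^ k = 1 ∧ (g ^ 2 ^ k) ^ m = 1 := by
  obtain ⟨k, m, hm, hn⟩ := Nat.exists_eq_two_pow_mul_odd (orderOf_pos g).ne'
  refine ⟨k, m, hm, ?_, ?_⟩
  · rw [← pow_mul, mul_comm, ← hn, pow_orderOf_eq_one]
  · rw [← pow_mul, ← hn, pow_orderOf_eq_one]

/-- (b1') -/
theorem Pt.mem_cent (hT : IsSylowIn 2 T ⊤) {φ : Subgroup X} (h : Pt T φ) {g : X}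
    (hN : g ∈ 𝐍(φ)) (h2 : g * g ∈ 𝐂(φ)) : g ∈ 𝐂(φ) := by
  obtain ⟨k, m, ⟨j, rfl⟩, h3, -⟩ := exists_odd_pow g
  have h4 := h.le_cent hT (isPGroup_zpowers_of_pow h3) (zpowers_le.2 (pow_mem hN _))
    (mem_zpowers _)
  have h5 : g = ((g * g) ^ j)⁻¹ * g ^ (2 * j + 1) := by rw [← sq, ← pow_mul]; group
  rw [h5]
  exact mul_mem (inv_mem (pow_mem h2 j)) h4

/-- (b2) -/
theorem Pt.exists_syl (hT : IsSylowIn 2 T ⊤) {φ D : Subgroup X} (h : Pt T φ) (hD : IsPGroup 2 D)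
    (hC : D ≤ 𝐂(φ)) : ∃ g : X, φ = g •ᶜ Om T ∧ D ≤ g •ᶜ T := by
  obtain ⟨g, rfl⟩ := h
  have h2 : IsSylowIn 2 (g •ᶜ T) 𝐂(g •ᶜ Om T) := (syl_cj hT g).mono (cj_le_cent_Om T g) le_top
  obtain ⟨x, hx, hle⟩ := h2.exists_conj_le hD hC
  refine ⟨x⁻¹ * g, ?_, ?_⟩
  · rw [map_conj_mul, cj_eq (cent_le_norm _ (inv_mem hx))]
  · rw [map_conj_mul]; exact conj_le_iff.1 hle

theorem exists_syl_ge (hT : IsSylowIn 2 T ⊤) {D : Subgroup X} (hD : IsPGroup 2 D) :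
    ∃ g : X, D ≤ g •ᶜ T := by
  obtain ⟨x, -, hle⟩ := hT.exists_conj_le hD le_top
  exact ⟨x⁻¹, conj_le_iff.1 hle⟩

/-- Every `2`-group centralizes a point. -/
theorem exists_pt (hT : IsSylowIn 2 T ⊤) {D : Subgroup X} (hD : IsPGroup 2 D) :
    ∃ φ, Pt T φ ∧ D ≤ 𝐂(φ) := by
  obtain ⟨g, hg⟩ := exists_syl_ge hT hD
  exact ⟨_, ⟨g, rfl⟩, hg.trans (cj_le_cent_Om T g)⟩

theorem BB.le_of_bad {A B : Subgroup X} (h : BB T A) (hB : El B) (hc : B ≤ 𝐂(A))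
    (hb : Bad T (A ⊔ B)) : B ≤ A := by
  have h1 := hb.card_le (h.1.sup hB hc)
  rw [← h.2.2] at h1
  exact le_sup_right.trans (eq_of_le_of_card_ge le_sup_left h1).ge

theorem BB.pts {A : Subgroup X} (h : BB T A) :
    ∃ φ ψ : Subgroup X, Pt T φ ∧ Pt T ψ ∧ φ ≠ ψ ∧ φ ≤ 𝐂(ψ) ∧ A ≤ 𝐂(φ) ∧ A ≤ 𝐂(ψ) ∧
      φ ≤ A ∧ ψ ≤ A := by
  obtain ⟨h1, φ, ψ, h2, h3, h4, h5, h6, h7⟩ := h.2.1
  refine ⟨φ, ψ, h2, h3, h4, h5, h6, h7, ?_, ?_⟩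
  · exact h.le_of_bad h2.el (lcc h6) ⟨(h.1.sup h2.el (lcc h6)).isPGroup, φ, ψ, h2, h3, h4, h5,
      sup_le h6 h2.el.le_cent, sup_le h7 h5⟩
  · exact h.le_of_bad h3.el (lcc h7) ⟨(h.1.sup h3.el (lcc h7)).isPGroup, φ, ψ, h2, h3, h4, h5,
      sup_le h6 (lcc h5), sup_le h7 h3.el.le_cent⟩

theorem BB.le_of_cent (hT : IsSylowIn 2 T ⊤) {A B : Subgroup X} (h : BB T A) (hB : El B)
    (hc : B ≤ 𝐂(A)) : B ≤ A := by
  obtain ⟨φ, ψ, h2, h3, h4, h5, h6, h7, h8, h9⟩ := h.pts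
  exact h.le_of_bad hB hc ⟨(h.1.sup hB hc).isPGroup, φ, ψ, h2, h3, h4, h5,
    sup_le h6 (hc.trans (cent_anti h8)), sup_le h7 (hc.trans (cent_anti h9))⟩

/-- (b3) -/
theorem BB.mem_of_cent (hT : IsSylowIn 2 T ⊤) {A : Subgroup X} (h : BB T A) {y : X}
    (hy : y * y = 1) (hc : y ∈ 𝐂(A)) : y ∈ A :=
  h.le_of_cent hT (el_zpowers hy) (zpowers_le.2 hc) (mem_zpowers y)

theorem BB.ne_bot (hT : IsSylowIn 2 T ⊤) {A : Subgroup X} (h : BB T A) : A ≠ ⊥ := by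
  obtain ⟨φ, ψ, h2, h3, h4, h5, h6, h7, h8, h9⟩ := h.pts
  rintro rfl
  exact h4 ((le_bot_iff.1 h8).trans (le_bot_iff.1 h9).symm)

theorem Od_le_cent {M D : Subgroup X} (hD : IsPGroup 2 D) (h1 : D ≤ M) (h2 : M ≤ 𝐍(D)) :
    Od M ≤ 𝐂(D) := by
  intro o ho
  rw [mem_cent]
  intro x hx
  have h3 : x * o * x⁻¹ * o⁻¹ ∈ Od M :=
    mul_mem (norm_mem (le_norm_Od M (h1 hx)) ho) (inv_mem ho)
  have h4 : x * o * x⁻¹ * o⁻¹ ∈ D := by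
    have := mul_mem hx (norm_mem (h2 (Od_le M ho)) (inv_mem hx))
    simpa only [mul_assoc] using this
  have h5 := CfsgLib.Invol.eq_one_of_odd_of_mem hD h4 (odd_of_mem_Od h3)
  calc x * o = x * o * x⁻¹ * o⁻¹ * (o * x) := by group
    _ = o * x := by rw [h5, one_mul]

theorem exists_BB_le_T (hT : IsSylowIn 2 T ⊤) (hb : ∃ D, Bad T D) : ∃ A, BB T A ∧ A ≤ T := by
  obtain ⟨D, hD⟩ := hb
  obtain ⟨A, hA⟩ := hD.exists_BB
  obtain ⟨g, hg⟩ := exists_syl_ge hT hA.1.isPGroup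
  exact ⟨_, hA.cj g⁻¹, le_conj_iff.1 hg⟩

theorem CO1.eq_of_WB_le_one (h : CO1 G T a r) {ψ : Subgroup X} (hψ : Pt T ψ) (hb : ∃ D, Bad T D)
    (hc : WB T T ≤ 𝐂(ψ)) : ψ = Om T := by
  have hT := h.syl
  have hJ : IsPGroup 2 (WB T T) := hT.isPGroup.to_le (WB_le T T)
  obtain ⟨g, rfl, hg⟩ := hψ.exists_syl hT hJ hc
  have h1 : WB T T ≤ g •ᶜ WB T T := by
    rw [← WB_cj]
    calc WB T T = WB T (WB T T) := (WB_idem T T).symm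
      _ ≤ _ := WB_mono hg
  have h2 : g ∈ 𝐍(WB T T) :=
    mem_norm_of_cj (eq_of_le_of_card_ge h1 (by rw [CfsgLib.card_map_conj])).symm
  obtain ⟨A, hA, hAT⟩ := exists_BB_le_T hT hb
  have hAJ := hA.le_WB hAT
  have hne : WB T T ≠ ⊥ := fun e => hA.ne_bot hT (le_bot_iff.1 (e ▸ hAJ))
  obtain ⟨o, ho, m, hm, rfl⟩ := h.loc _ (WB_le T T) hne
    (le_normalizer.trans (norm_le_norm_WB T T)) (norm_le_norm_WB T T h.anorm) g h2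
  have hZ : Om T ≤ WB T T :=
    (hA.le_of_cent hT (Om_el T) ((Om_le_cent T).trans (cent_anti hAT))).trans hAJ
  have h3 : o ∈ 𝐂(Om T) := cent_anti hZ (Od_le_cent hJ le_normalizer le_rfl ho)
  rw [map_conj_mul, cj_eq (norm_le_norm_Om T hm), cj_eq (cent_le_norm _ h3)]

/-- (b4) -/
theorem CO1.eq_of_WB_le (h : CO1 G T a r) {ψ : Subgroup X} (hψ : Pt T ψ) (hb : ∃ D, Bad T D)
    (g : X) (hc : WB T (g •ᶜ T) ≤ 𝐂(ψ)) : ψ = g •ᶜ Om T := by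
  have h1 := cj_cent hc g⁻¹
  rw [WB_cj, map_conj_inv_map_conj] at h1
  rw [← h.eq_of_WB_le_one (hψ.cj g⁻¹) hb h1, map_conj_map_conj_inv]

/-- (b5) -/
theorem exists_BB_norm {P Y : Subgroup X} (hP : IsPGroup 2 P) (hY : WB T Y = Y) (hYP : Y ≤ P)
    (hn : ¬ WB T P ≤ Y) : ∃ A, BB T A ∧ A ≤ P ∧ A ≤ 𝐍(Y) ∧ ¬ A ≤ Y := by
  by_contra hc
  push Not at hc
  have h1 : WB T (P ⊓ 𝐍(Y)) = Y := by
    refine le_antisymm (WB_le_of fun A hA hle => hc A hA (hle.trans inf_le_left)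
      (hle.trans inf_le_right)) ?_
    calc Y = WB T Y := hY.symm
      _ ≤ _ := WB_mono (le_inf hYP le_normalizer)
  by_cases h2 : P ⊓ 𝐍(Y) < P
  · have h3 := lt_inf_normalizer_of_isPGroup hP h2
    refine h3.not_ge (le_inf inf_le_left (inf_le_right.trans ?_))
    have := norm_le_norm_WB T (P ⊓ 𝐍(Y))
    rwa [h1] at this
  · have h3 : P ⊓ 𝐍(Y) = P := (inf_le_left.eq_or_lt).resolve_right h2
    rw [h3] at h1
    exact hn h1.le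

theorem MaxW.cj {X0 : Subgroup X} (h : MaxW T X0) (g : X) : MaxW T (g •ᶜ X0) :=
  ⟨by rw [WB_cj, h.wb], h.bad.cj g, fun D hD => by rw [CfsgLib.card_map_conj]; exact h.max D hD⟩

theorem EE.cj {X0 E : Subgroup X} (h : EE T X0 E) (g : X) : EE T (g •ᶜ X0) (g •ᶜ E) :=
  ⟨h.el.cj g, by rw [CfsgLib.card_map_conj]; exact h.card, cj_norm h.norm g,
    fun e => h.nle (U4.conj_le_conj_iff.1 e)⟩

theorem EE.cj' {X0 E : Subgroup X} (h : EE T X0 E) {g : X} (hg : g ∈ 𝐍(X0)) :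
    EE T X0 (g •ᶜ E) := by
  have := h.cj g
  rwa [cj_eq hg] at this

theorem MaxW.exists_BB (hT : IsSylowIn 2 T ⊤) {X0 : Subgroup X} (h : MaxW T X0) :
    ∃ A, BB T A ∧ A ≤ X0 := by
  refine exists_BB_le_of_ne_bot fun e => ?_
  obtain ⟨A, hA⟩ := h.bad.exists_BB
  have h1 := h.max A hA.2.1
  rw [← h.wb, e, card_bot] at h1
  have h2 : WB T A = ⊥ := eq_bot_of_card_le _ h1
  exact hA.ne_bot hT (le_bot_iff.1 (h2 ▸ hA.le_WB le_rfl))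

/-- Elementary abelian groups centralizing `X0` lie in `X0`, indeed in `Om X0`. -/
theorem MaxW.le_Om (hT : IsSylowIn 2 T ⊤) {X0 B : Subgroup X} (h : MaxW T X0) (hB : El B)
    (hc : B ≤ 𝐂(X0)) : B ≤ Om X0 := by
  obtain ⟨A, hA, hle⟩ := h.exists_BB hT
  exact fun x hx => ⟨hle (hA.le_of_cent hT hB (hc.trans (cent_anti hle)) hx), hc hx, hB x hx⟩

theorem MaxW.pt_le_Om (hT : IsSylowIn 2 T ⊤) {X0 φ : Subgroup X} (h : MaxW T X0) (hφ : Pt T φ)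
    (hc : X0 ≤ 𝐂(φ)) : φ ≤ Om X0 := h.le_Om hT hφ.el (lcc hc)

theorem MaxW.isPGroup_sup {X0 E : Subgroup X} (h : MaxW T X0) (hE : EE T X0 E) :
    IsPGroup 2 (X0 ⊔ E : Subgroup X) :=
  h.bad.1.to_sup_of_normal_left' hE.el.isPGroup hE.norm

theorem MaxW.exists_pt (hT : IsSylowIn 2 T ⊤) {X0 E : Subgroup X} (h : MaxW T X0)
    (hE : EE T X0 E) : ∃ φ, Pt T φ ∧ X0 ≤ 𝐂(φ) ∧ E ≤ 𝐂(φ) := by
  obtain ⟨φ, h1, h2⟩ := CO.exists_pt hT (h.isPGroup_sup hE)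
  exact ⟨φ, h1, le_sup_left.trans h2, le_sup_right.trans h2⟩

/-- (uniq) -/
theorem MaxW.uniq (hT : IsSylowIn 2 T ⊤) {X0 E φ ψ : Subgroup X} (h : MaxW T X0)
    (hE : EE T X0 E) (hφ : Pt T φ) (hψ : Pt T ψ) (h1 : X0 ≤ 𝐂(φ)) (h2 : E ≤ 𝐂(φ))
    (h3 : X0 ≤ 𝐂(ψ)) (h4 : E ≤ 𝐂(ψ)) : φ = ψ := by
  by_contra hne
  have h5 : φ ≤ 𝐂(ψ) := ((h.pt_le_Om hT hφ h1).trans (Om_le X0)).trans h3
  have hb : Bad T (X0 ⊔ E) := ⟨h.isPGroup_sup hE, φ, ψ, hφ, hψ, hne, h5, sup_le h1 h2, sup_le h3 h4⟩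
  have hE' : BB T E := BB.of_le hE.el (hb.mono le_sup_right) hE.card
  have h6 : X0 ≤ WB T (X0 ⊔ E) := by
    calc X0 = WB T X0 := h.wb.symm
      _ ≤ _ := WB_mono le_sup_left
  have h7 := eq_of_le_of_card_ge h6 (h.max _ hb)
  exact hE.nle (h7 ▸ hE'.le_WB le_sup_right)

end CfsgLib.CO
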