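import Cfsg.Agent.Lib.CO.B4

set_option autoImplicit false

namespace CfsgLib.CO

open Subgroup Cfsg CfsgLib.FT CfsgLib.FT.BGN CfsgLib.GW CfsgLib.Wal
open CfsgLib.FT.U4 (mem_cent1 mem_cent1' mem_cent mem_cent1_comm cent1_conj conj_mem_conj_iff
  orderOf_conj)
open scoped commutatorElement

variable {X : Type*} [Group X] [Finite X] {G T : Subgroup X} {a : X} {r : ℕ}

variable {W : Subgroup X} {u : X}

/-- The structure of the block case: `𝒩 = F × ⟨v, v'⟩`, `E = F × W`. -/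
structure Blk (T W F : Subgroup X) (u v v' t d1 : X) : Prop where
  vW : v ∈ W
  v1 : v ≠ 1
  vu : v ≠ u
  tT : t ∈ T
  tu : t ∈ 𝐂[u]
  hv' : v' = t * v * t⁻¹
  v'N : v' ∈ 𝐍(W)
  v'W : v' ∉ 𝐂(W)
  FE : F ≤ T ⊓ 𝐂(W)
  Fv' : F ≤ 𝐂[v']
  FW : F ⊓ W = ⊥
  FN : T ⊓ 𝐍(W) ≤ 𝐍(F)
  dec : ∀ x ∈ T ⊓ 𝐂(W), ∃ f ∈ F, ∃ w ∈ W, x = f * w
  Fd : F ≤ 𝐂[d1]
  du : d1 ∉ 𝐂[u]

namespace B3

theorem four_cent (hW : El W) (h4 : Nat.card W = 4) (hu : u ∈ W) (h1 : u ≠ 1) {v : X} (hv : v ∈ W)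
    (hv1 : v ≠ 1) (hvu : v ≠ u) {y : X} (hyu : y ∈ 𝐂[u]) (hyv : y ∈ 𝐂[v]) : y ∈ 𝐂(W) := by
  rw [mem_cent]
  intro w hw
  have a := mem_cent1'.1 hyu
  have b := mem_cent1'.1 hyv
  rcases four_mem hW h4 hu h1 hv hv1 hvu hw with rfl | rfl | rfl | rfl
  · simp
  · exact a
  · exact b
  · rw [mul_assoc, a, ← mul_assoc, b, mul_assoc]

omit [Finite X] in
theorem conj_eq_of_cent1 {x c : X} (h : c ∈ 𝐂[x]) : c * x * c⁻¹ = x := by
  rw [mem_cent1.1 h, mul_inv_cancel_right]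

omit [Finite X] in
theorem cent_conj {W : Subgroup X} {d x : X} (hd : d ∈ 𝐍(W)) (hx : x ∈ 𝐂(W)) :
    d * x * d⁻¹ ∈ 𝐂(W) := by
  rw [mem_cent] at hx ⊢
  intro w hw
  have := hx _ (conj_mem_of_mem_normalizer' hd hw)
  calc w * (d * x * d⁻¹) = d * (d⁻¹ * w * d * x) * d⁻¹ := by group
    _ = d * (x * (d⁻¹ * w * d)) * d⁻¹ := by rw [this]
    _ = d * x * d⁻¹ * w := by group

end B3

open B3

theorem Vx.blk (hT : IsSylowIn 2 T ⊤) (h : Vx T W u) (hb : ¬ T ⊓ 𝐂[u] ≤ 𝐍(W)) :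
    ∃ (F : Subgroup X) (v v' t d1 : X), Blk T W F u v v' t d1 := by
  obtain ⟨H, A0, d, z0, hD⟩ := id h
  have hTp : IsPGroup 2 T := hT.2.1
  have hW := hD.elW
  have h4 := hD.cardW
  have hu := hD.uW
  have h1 := hD.u1
  have hlt : T ⊓ 𝐍(W) < T ⊓ 𝐂[u] :=
    lt_of_le_of_ne (le_inf inf_le_left hD.Nu) (fun e => hb (e ▸ inf_le_right))
  have : Fact (Nat.Prime 2) := ⟨Nat.prime_two⟩
  have hnil : Group.IsNilpotent (T ⊓ 𝐂[u] : Subgroup X) := (hTp.to_le inf_le_left).isNilpotent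
  obtain ⟨t, ⟨⟨htT, htu⟩, htN⟩, htn⟩ :=
    SetLike.exists_of_lt (lt_inf_normalizer_of_isNilpotent hnil hlt)
  have htW : t ∉ 𝐍(W) := fun e => htn ⟨htT, e⟩
  have htu' : t * u * t⁻¹ = u := conj_eq_of_cent1 htu
  have hWN : W ≤ T ⊓ 𝐍(W) := le_inf hD.WT le_normalizer
  have hW'N : t •ᶜ W ≤ T ⊓ 𝐍(W) := cj_le_of_norm hWN htN
  have hNW' : T ⊓ 𝐍(W) ≤ 𝐍(t •ᶜ W) := by
    have := le_norm_cj (g := t) (inf_le_right : T ⊓ 𝐍(W) ≤ 𝐍(W))
    rwa [map_conj_eq_of_mem_normalizer htN] at this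
  have hvx' : Vx T (t •ᶜ W) u := by
    have := h.cj (le_normalizer htT)
    rwa [htu'] at this
  have hne : W ≠ t •ᶜ W := fun e => htW (mem_normalizer_of_map_conj_eq e.symm)
  have hEN : T ⊓ 𝐂(W) ≤ T ⊓ 𝐍(W) := inf_le_inf_left _ (centralizer_le_normalizer _)
  have hnc : ¬ t •ᶜ W ≤ 𝐂(W) := fun hc => by
    obtain ⟨e, he, he'⟩ := hD.exists_e
    exact he' (hD.two_vx hT hvx' hne hc ((WB_le _ _).trans (hEN.trans hNW')) he)
  obtain ⟨v, hv, hv1, hvu⟩ := four_exists h4 u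
  obtain ⟨v', hv'⟩ : ∃ v', v' = t * v * t⁻¹ := ⟨_, rfl⟩
  have hv'W' : v' ∈ t •ᶜ W := hv' ▸ conj_mem_map_conj hv
  have huW' : u ∈ t •ᶜ W := htu' ▸ conj_mem_map_conj hu
  have hv'N : v' ∈ T ⊓ 𝐍(W) := hW'N hv'W'
  have huC : u ∈ 𝐂(W) := hW.le_cent hu
  have hv'c : v' ∉ 𝐂(W) := fun hc => hnc fun x hx => by
    obtain ⟨y, hy, rfl⟩ := hx
    change t * y * t⁻¹ ∈ 𝐂(W)
    rcases four_mem hW h4 hu h1 hv hv1 hvu hy with rfl | rfl | rfl | rfl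
    · simp
    · rwa [htu']
    · rwa [← hv']
    · have : t * (v * u) * t⁻¹ = v' * u := by
        calc t * (v * u) * t⁻¹ = (t * v * t⁻¹) * (t * u * t⁻¹) := by group
          _ = v' * u := by rw [htu', hv']
      rw [this]
      exact mul_mem hc huC
  have hv'2 : v' * v' = 1 := hW.cj t v' hv'W'
  have hv'i : v'⁻¹ = v' := inv_eq_of_mul_eq_one_right hv'2
  have hv'u : v' ∈ 𝐂[u] := hD.Nu hv'N
  have hNv' : ∀ n ∈ T ⊓ 𝐍(W), n * v' * n⁻¹ = v' ∨ n * v' * n⁻¹ = v' * u := fun n hn =>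
    four_conj (hW.cj t) ((card_map_conj t W).trans h4) huW' h1 (hNW' hn) (hD.Nu hn) hv'W'
  have hdW : d ∈ 𝐍(W) := hD.HW hD.dH
  have hdE : d ∈ 𝐍(T ⊓ 𝐂(W)) := hD.HE hD.dH
  obtain ⟨w, hw⟩ : ∃ w, w = d * u * d⁻¹ := ⟨_, rfl⟩
  have hwW : w ∈ W := hw ▸ conj_mem_of_mem_normalizer hdW hu
  have hw1 : w ≠ 1 := by rw [hw]; simpa using h1
  have hwu : w ≠ u := fun e => hD.du (U4.mem_cent1_of_conj_eq (hw.symm.trans e))
  obtain ⟨v'', hv''⟩ : ∃ v'', v'' = d * v' * d⁻¹ := ⟨_, rfl⟩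
  have hv''N : v'' ∈ 𝐍(W) := hv'' ▸ mul_mem (mul_mem hdW hv'N.2) (inv_mem hdW)
  have hv''w : v'' ∈ 𝐂[w] := by
    rw [hw, hv'', cent1_conj]
    exact conj_mem_map_conj hv'u
  have hv''c : v'' ∉ 𝐂(W) := fun hc => hv'c (by
    have := cent_conj (inv_mem hdW) hc
    rw [hv''] at this
    simpa [mul_assoc] using this)
  have hv''2 : v'' * v'' = 1 := by
    rw [hv'']
    calc d * v' * d⁻¹ * (d * v' * d⁻¹) = d * (v' * v') * d⁻¹ := by group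
      _ = 1 := by rw [hv'2]; group
  have hv''i : v''⁻¹ = v'' := inv_eq_of_mul_eq_one_right hv''2
  have huu : u * u = 1 := hW u hu
  have hww : w * w = 1 := hW w hwW
  have huw : u * w = w * u := hW.comm hu hwW
  have a1 : v' * u * v'⁻¹ = u := conj_eq_of_cent1 hv'u
  have a2 : v' * w * v'⁻¹ = w * u := four_conj' hW h4 hu h1 hv'N.2 hv'u hv'c hwW hw1 hwu
  have b1 : v'' * w * v''⁻¹ = w := conj_eq_of_cent1 hv''w
  have b2 : v'' * u * v''⁻¹ = u * w := four_conj' hW h4 hwW hw1 hv''N hv''w hv''c hu h1 hwu.symm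
  obtain ⟨g, hg⟩ : ∃ g, g = v' * v'' := ⟨_, rfl⟩
  have g1 : g * u * g⁻¹ = w := by
    calc g * u * g⁻¹ = v' * (v'' * u * v''⁻¹) * v'⁻¹ := by rw [hg]; group
      _ = (v' * u * v'⁻¹) * (v' * w * v'⁻¹) := by rw [b2]; group
      _ = u * (w * u) := by rw [a1, a2]
      _ = w := by rw [← mul_assoc, huw, mul_assoc, huu, mul_one]
  have g2 : g * w * g⁻¹ = w * u := by
    calc g * w * g⁻¹ = v' * (v'' * w * v''⁻¹) * v'⁻¹ := by rw [hg]; group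
      _ = w * u := by rw [b1, a2]
  have g3 : g * (w * u) * g⁻¹ = u := by
    calc g * (w * u) * g⁻¹ = (g * w * g⁻¹) * (g * u * g⁻¹) := by group
      _ = w * u * w := by rw [g1, g2]
      _ = u := by rw [← huw, mul_assoc, hww, mul_one]
  have hgu : g ∉ 𝐂[u] := fun e => hwu (g1.symm.trans (conj_eq_of_cent1 e))
  have hfix : ∀ x ∈ W, g * x * g⁻¹ = x → x = 1 := fun x hx e => by
    rcases four_mem hW h4 hu h1 hwW hw1 hwu hx with rfl | rfl | rfl | rfl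
    · rfl
    · exact absurd (g1.symm.trans e) hwu
    · exact absurd (by simpa using g2.symm.trans e) h1
    · have := g3.symm.trans e
      exact absurd (by simpa using this) hw1
  have c1 : ∀ x ∈ T ⊓ 𝐂(W), ∃ c ∈ W, v' * x * v'⁻¹ = x * c := fun x hx => by
    rcases hNv' x⁻¹ (inv_mem (hEN hx)) with e | e
    · refine ⟨1, one_mem _, ?_⟩
      calc v' * x * v'⁻¹ = x * (x⁻¹ * v' * x⁻¹⁻¹) * v'⁻¹ := by group
        _ = x * 1 := by rw [e]; group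
    · refine ⟨u, hu, ?_⟩
      calc v' * x * v'⁻¹ = x * (x⁻¹ * v' * x⁻¹⁻¹) * v'⁻¹ := by group
        _ = x * (v' * u * v'⁻¹) := by rw [e]; group
        _ = x * u := by rw [a1]
  have c2 : ∀ x ∈ T ⊓ 𝐂(W), ∃ c ∈ W, g * x * g⁻¹ = x * c := fun x hx => by
    obtain ⟨c, hc, e⟩ := c1 _ (conj_mem_of_mem_normalizer' hdE hx)
    obtain ⟨c', hc', e'⟩ := c1 x hx
    refine ⟨c' * (v' * (d * c * d⁻¹) * v'⁻¹), mul_mem hc'
      (conj_mem_of_mem_normalizer hv'N.2 (conj_mem_of_mem_normalizer hdW hc)), ?_⟩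
    calc g * x * g⁻¹ = v' * (d * (v' * (d⁻¹ * x * d) * v'⁻¹) * d⁻¹) * v'⁻¹ := by
          rw [hg, hv'']; group
      _ = (v' * x * v'⁻¹) * (v' * (d * c * d⁻¹) * v'⁻¹) := by rw [e]; group
      _ = _ := by rw [e', mul_assoc]
  have hWE : W ≤ T ⊓ 𝐂(W) := le_inf hD.WT hW.le_cent
  have hdec : ∀ x ∈ T ⊓ 𝐂(W), ∃ f ∈ T ⊓ 𝐂(W) ⊓ 𝐂[g], ∃ w ∈ W, x = f * w := fun x hx => by
    obtain ⟨c, hc, e⟩ := c2 x hx
    have key : ∃ b ∈ W, c * (g * b * g⁻¹) = b := by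
      rcases four_mem hW h4 hu h1 hwW hw1 hwu hc with rfl | rfl | rfl | rfl
      · exact ⟨1, one_mem _, by simp⟩
      · exact ⟨w, hwW, by rw [g2, ← mul_assoc, huw, mul_assoc, huu, mul_one]⟩
      · exact ⟨c * u, mul_mem hwW hu, by rw [g3]⟩
      · exact ⟨u, hu, by rw [g1, ← huw, mul_assoc, hww, mul_one]⟩
    obtain ⟨b, hb, e'⟩ := key
    refine ⟨x * b, ⟨mul_mem hx (hWE hb), mem_cent1_comm.1 (U4.mem_cent1_of_conj_eq ?_)⟩, b, hb, ?_⟩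
    · calc g * (x * b) * g⁻¹ = (g * x * g⁻¹) * (g * b * g⁻¹) := by group
        _ = x * b := by rw [e, mul_assoc, e']
    · rw [mul_assoc, hW b hb, mul_one]
  have hFv' : T ⊓ 𝐂(W) ⊓ 𝐂[g] ≤ 𝐂[v'] := fun f hf => by
    rcases hNv' f (hEN hf.1) with e | e
    · exact U4.mem_cent1_of_conj_eq e
    · exfalso
      apply hgu
      have hinv : v'⁻¹ * g * v' = g⁻¹ := by
        rw [hg, mul_inv_rev, hv''i, hv'i]
        calc v' * (v' * v'') * v' = (v' * v') * v'' * v' := by group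
          _ = v'' * v' := by rw [hv'2, one_mul]
      have k1 : v' * f * v'⁻¹ ∈ 𝐂[g] := by
        have k := mem_cent1.1 hf.2
        have k' : f * g⁻¹ = g⁻¹ * f := by
          calc f * g⁻¹ = g⁻¹ * (g * f) * g⁻¹ := by group
            _ = g⁻¹ * f := by rw [← k]; group
        rw [mem_cent1]
        calc v' * f * v'⁻¹ * g = v' * (f * (v'⁻¹ * g * v')) * v'⁻¹ := by group
          _ = v' * ((v'⁻¹ * g * v') * f) * v'⁻¹ := by rw [hinv, k']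
          _ = g * (v' * f * v'⁻¹) := by group
      have k2 : u = (v' * f * v'⁻¹ * f⁻¹)⁻¹ := by
        calc u = v' * u * v'⁻¹ := a1.symm
          _ = (f * v' * f⁻¹) * v'⁻¹ := by rw [e]
          _ = _ := by group
      rw [mem_cent1_comm, k2]
      exact inv_mem (mul_mem k1 (inv_mem hf.2))
  have hEF : T ⊓ 𝐂(W) ≤ 𝐍(T ⊓ 𝐂(W) ⊓ 𝐂[g]) := fun x hx => by
    obtain ⟨f, hf, b, hb, rfl⟩ := hdec x hx
    refine mul_mem (le_normalizer hf) (centralizer_le_normalizer _ ?_)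
    rw [mem_cent]
    intro y hy
    exact (mem_cent.1 hy.1.2 b hb).symm
  refine ⟨T ⊓ 𝐂(W) ⊓ 𝐂[g], v, v', t, g, hv, hv1, hvu, htT, htu, hv', hv'N.2, hv'c, inf_le_left,
    hFv', ?_, fun n hn => ?_, hdec, inf_le_right, hgu⟩
  · rw [eq_bot_iff]
    rintro x ⟨hx1, hx2⟩
    exact hfix x hx2 (conj_eq_of_cent1 (mem_cent1_comm.1 hx1.2))
  · by_cases hc : n ∈ 𝐂(W)
    · exact hEF ⟨hn.1, hc⟩
    · have k : n * v' ∈ T ⊓ 𝐂(W) := ⟨mul_mem hn.1 hv'N.1,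
        four_mul_mem hW h4 hu h1 hn.2 (hD.Nu hn) hc hv'N.2 hv'u hv'c⟩
      have k2 : v' ∈ 𝐍(T ⊓ 𝐂(W) ⊓ 𝐂[g]) := centralizer_le_normalizer _ (by
        rw [mem_cent]
        intro y hy
        exact mem_cent1.1 (hFv' hy))
      have := mul_mem (hEF k) (inv_mem k2)
      simpa using this

end CfsgLib.CO
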