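import Cfsg.Agent.Lib.CO.NP
import Cfsg.Agent.Lib.CO.Can

set_option autoImplicit false

namespace CfsgLib.CO

open Subgroup Cfsg CfsgLib.FT CfsgLib.FT.BGN CfsgLib.GW CfsgLib.Wal
open CfsgLib.FT.U4 (mem_cent1 mem_cent1' mem_cent mem_cent1_comm cent1_conj conj_mem_conj_iff
  orderOf_conj)
open scoped commutatorElement

variable {X : Type*} [Group X] [Finite X] {G T : Subgroup X} {a : X} {r : ℕ}

variable {W H A0 : Subgroup X} {u d z0 : X}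

theorem b4_moves (hW : El W) (h4 : Nat.card W = 4) (hu : u ∈ W) (h1 : u ≠ 1) {v n : X}
    (hv : v ∈ W) (hv1 : v ≠ 1) (hvu : v ≠ u) (hn : n ∈ 𝐍(W)) (hb : n ∈ 𝐂[u]) (hnW : n ∉ 𝐂(W)) :
    n ∉ 𝐂[v] := fun e => h1 (by
  have h2 := four_conj' hW h4 hu h1 hn hb hnW hv hv1 hvu
  rw [U4.conj_eq_of_mem_cent1 e] at h2
  exact mul_eq_left.mp h2.symm)

theorem b4_WB_cj {s : X} (hs : s ∈ 𝐍(T)) (W : Subgroup X) :
    WB T (T ⊓ 𝐂(s •ᶜ W)) = s •ᶜ WB T (T ⊓ 𝐂(W)) := by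
  rw [← WB_cj, map_conj_inf, map_conj_eq_of_mem_normalizer hs, centralizer_map_conj]

/-- Two different vertices, `W' ≤ 𝐂(W)`, `WB E ≤ 𝐍(W')`: then `d A0 d⁻¹` centralizes `u'`. -/
theorem VxD.two_vx (hT : IsSylowIn 2 T ⊤) (h : VxD T W u H A0 d z0) {W' : Subgroup X} {u' : X}
    (h' : Vx T W' u') (hne : W ≠ W') (hc : W' ≤ 𝐂(W)) (hN : WB T (T ⊓ 𝐂(W)) ≤ 𝐍(W')) :
    d •ᶜ A0 ≤ 𝐂[u'] := by
  obtain ⟨H', A', d', z', hd⟩ := id h'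
  have hE : W' ≤ T ⊓ 𝐂(W) := le_inf hd.WT hc
  have hX : WB T (T ⊓ 𝐂(W)) ≤ T ⊓ 𝐍(W') := le_inf ((WB_le _ _).trans inf_le_left) hN
  have h1 : W' ≤ WB T (T ⊓ 𝐂(W)) := by
    obtain ⟨B, hB, h1⟩ := (h.maxW hT).exists_BB hT
    by_cases h2 : B ≤ 𝐂(W')
    · exact (hB.le_of_cent hT hd.elW (le_centralizer_iff.mp h2)).trans h1
    · exact le_sup_right.trans ((hd.bb hT hB.1 hB.2.2.ge ((h1.trans hX).trans hd.NH) h2).1.le_WB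
        (sup_le (inf_le_left.trans (h1.trans (WB_le _ _))) hE))
  have h2 : ¬ WB T (T ⊓ 𝐂(W)) ≤ 𝐂(W') := fun h2 => hne (Vx.can hT ⟨H, A0, d, z0, h⟩ h'
    (eq_of_le_of_card_ge ((WB_idem T _).ge.trans (WB_mono (le_inf (hX.trans inf_le_left) h2)))
      (h.max _ (hd.bad hT))))
  obtain ⟨x, hx, h3⟩ := SetLike.not_le_iff_exists.mp h2
  obtain ⟨v, hv, hv1, hvu⟩ := four_exists hd.cardW u'
  exact h.nprime hT (h1 hv) (hd.elW v hv) (hd.elW u' hd.uW)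
    (mem_cent.mpr fun y hy => mem_cent1.mp (hd.Nu (hX hy)))
    (fun y hy => four_conj hd.elW hd.cardW hd.uW hd.u1 (hN hy) (hd.Nu (hX hy)) hv)
    fun e => b4_moves hd.elW hd.cardW hd.uW hd.u1 hv hv1 hvu (hN hx) (hd.Nu (hX hx)) h3
      (mem_cent1.mpr (mem_cent.mp e x hx))

/-- `N_T(WB E) ≤ 𝐍(W)`. -/
theorem Vx.norm_le (hT : IsSylowIn 2 T ⊤) (h : Vx T W u) :
    T ⊓ 𝐍(WB T (T ⊓ 𝐂(W))) ≤ 𝐍(W) := fun n hn =>
  mem_normalizer_of_map_conj_eq (Vx.can hT (h.cj (le_normalizer hn.1)) h (by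
    rw [b4_WB_cj (le_normalizer hn.1)]
    exact map_conj_eq_of_mem_normalizer hn.2))

/-- The non-block case. -/
theorem Vx.nonblock (hT : IsSylowIn 2 T ⊤) (h : Vx T W u) (hb : T ⊓ 𝐂[u] ≤ 𝐍(W)) :
    LC T W u ∧ IB T W u ∧ Ind T u := by
  obtain ⟨H, A0, d, z0, hd⟩ := id h
  have lc : LC T W u := fun n h1 h2 _ => hb ⟨h1, h2⟩
  refine ⟨lc, fun A _ h1 h2 x hx y hy h3 h4 => four_mul_mem hd.elW hd.cardW hd.uW hd.u1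
    (hb ⟨h1 hx, h2 hx⟩) (h2 hx) h3 (hb ⟨h1 hy, h2 hy⟩) (h2 hy) h4, ?_⟩
  obtain ⟨e, he, h1⟩ := hd.exists_e
  refine ⟨e, h1, fun s hs h2 h3 => ?_⟩
  have hd' := hd.cj hs
  have h4 : WB T (T ⊓ 𝐂(W)) ≤ T ⊓ 𝐂[s * u * s⁻¹] :=
    ((WB_mono (inf_le_inf_left T (U4.cent_le_cent1 hd.uW))).trans h3.ge).trans (WB_le _ _)
  have h5 : WB T (T ⊓ 𝐂(s •ᶜ W)) ≤ T ⊓ 𝐂[u] :=
    ((WB_mono (inf_le_inf_left T (U4.cent_le_cent1 hd'.uW))).trans h3.le).trans (WB_le _ _)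
  refine hd.two_vx hT (h.cj hs) (fun e => hd.AW fun x hx => by_contra fun h6 => ?_)
    (h.comm hT lc (h.cj hs) (lc.cj hs) h2.symm
      ((((hd.W_le_Om hT).trans (Om_le _)).trans h4).trans inf_le_right)
      ((((hd'.W_le_Om hT).trans (Om_le _)).trans h5).trans inf_le_right)) (h4.trans ?_) he
  · exact b4_moves hd.elW hd.cardW hd.uW hd.u1 (e ▸ hd'.uW) hd'.u1 h2 (hd.AN hx).2
      (hd.Nu (hd.AN hx)) h6 (hd'.Nu (e ▸ hd.AN hx))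
  · rw [cent1_conj, normalizer_map_conj, ← map_conj_eq_of_mem_normalizer hs, ← map_conj_inf]
    exact map_mono hb

end CfsgLib.CO
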