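import Cfsg.Agent.Lib.Wal.Basic

/-!
# Coprime automorphisms of prime order with a fixed point subgroup of odd order: definitions

All objects live in one ambient finite group `X = G ⟨a⟩`.  See `notes/co_plan.md`.
-/

set_option autoImplicit false

namespace CfsgLib.CO

open Subgroup Cfsg CfsgLib.FT CfsgLib.FT.BGN CfsgLib.GW CfsgLib.Wal
open scoped commutatorElement

variable {X : Type*} [Group X]

/-- `Ω₁ Z(T)`. -/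
def Om (T : Subgroup X) : Subgroup X where
  carrier := {z | z ∈ T ∧ z ∈ 𝐂(T) ∧ z * z = 1}
  one_mem' := ⟨one_mem _, one_mem _, one_mul _⟩
  mul_mem' := by
    rintro x y ⟨h1, h2, h3⟩ ⟨k1, k2, k3⟩
    refine ⟨mul_mem h1 k1, mul_mem h2 k2, ?_⟩
    have h : x * y = y * x := mem_centralizer_iff.1 k2 x h1
    calc x * y * (x * y) = x * (y * x) * y := by simp only [mul_assoc]
      _ = x * (x * y) * y := by rw [← h]
      _ = (x * x) * (y * y) := by simp only [mul_assoc]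
      _ = 1 := by rw [h3, k3, one_mul]
  inv_mem' := by
    rintro x ⟨h1, h2, h3⟩
    exact ⟨inv_mem h1, inv_mem h2, by rw [← mul_inv_rev, h3, inv_one]⟩

theorem mem_Om {T : Subgroup X} {z : X} : z ∈ Om T ↔ z ∈ T ∧ z ∈ 𝐂(T) ∧ z * z = 1 := Iff.rfl

/-- The minimal counterexample. -/
structure CO0 (G T : Subgroup X) (a : X) (r : ℕ) : Prop where
  prime : r.Prime
  odd : r ≠ 2
  ord : orderOf a = r
  normal : G.Normal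
  simple : IsSimpleGroup G
  nonab : ¬ IsMulCommutative G
  sup : G ⊔ zpowers a = ⊤
  cop : ¬ r ∣ Nat.card G
  syl : IsSylowIn 2 T ⊤
  le : T ≤ G
  anorm : a ∈ 𝐍(T)
  fpf : ∀ z : X, z * z = 1 → z * a = a * z → z = 1
  sol : ∀ H : Subgroup X, H < G → a ∈ 𝐍(H) → Group.IsSolvable H

/-- The minimal counterexample together with its local consequences (file `A1`). -/
structure CO1 (G T : Subgroup X) (a : X) (r : ℕ) : Prop extends CO0 G T a r where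
  loc : ∀ D : Subgroup X, D ≤ T → D ≠ ⊥ → T ≤ 𝐍(D) → a ∈ 𝐍(D) →
    ∀ n ∈ 𝐍(D), ∃ o ∈ Od 𝐍(D), ∃ m ∈ 𝐍(T), n = o * m
  cz : ∀ n ∈ 𝐍(Om T), ∀ z ∈ Om T, a * (n * z * n⁻¹) * a⁻¹ = n * (a * z * a⁻¹) * n⁻¹
  fix : ∀ z g : X, z * z = 1 → z ≠ 1 → g ∈ G → a * z * a⁻¹ ≠ g * z * g⁻¹
  two_le : ∀ D : Subgroup X, IsPGroup 2 D → D ≤ G

/-- `Ω₁ Z(T)` is weakly closed in `T`. -/
def WC (T : Subgroup X) : Prop := ∀ g : X, g •ᶜ Om T ≤ T → g •ᶜ Om T = Om T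

/-- Points: the conjugates of `Ω₁ Z(T)`. -/
def Pt (T φ : Subgroup X) : Prop := ∃ g : X, φ = g •ᶜ Om T

/-- Bad groups: `2`-groups centralizing two distinct commuting points. -/
def Bad (T D : Subgroup X) : Prop :=
  IsPGroup 2 D ∧ ∃ φ ψ : Subgroup X, Pt T φ ∧ Pt T ψ ∧ φ ≠ ψ ∧ φ ≤ 𝐂(ψ) ∧ D ≤ 𝐂(φ) ∧ D ≤ 𝐂(ψ)

/-- The largest order of an elementary abelian bad group. -/
noncomputable def KK (T : Subgroup X) : ℕ :=
  sSup {n | ∃ A : Subgroup X, El A ∧ Bad T A ∧ Nat.card A = n}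

/-- Elementary abelian bad groups of the largest order. -/
def BB (T A : Subgroup X) : Prop := El A ∧ Bad T A ∧ Nat.card A = KK T

/-- The weak closure of `BB` in `D`. -/
def WB (T D : Subgroup X) : Subgroup X := sSup {A | BB T A ∧ A ≤ D}

/-- `X0` is a bad weak closure of the largest order. -/
structure MaxW (T X0 : Subgroup X) : Prop where
  wb : WB T X0 = X0
  bad : Bad T X0
  max : ∀ D : Subgroup X, Bad T D → Nat.card (WB T D) ≤ Nat.card X0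

/-- Large elementary abelian groups normalizing `X0`, not inside `X0`. -/
structure EE (T X0 E : Subgroup X) : Prop where
  el : El E
  card : KK T ≤ Nat.card E
  norm : E ≤ 𝐍(X0)
  nle : ¬ E ≤ X0

/-- The normal closure of `Ω₁ Z(T)` under `L`. -/
def VL (T L : Subgroup X) : Subgroup X := ⨆ l ∈ L, l •ᶜ Om T

/-- The failure-of-factorization configuration (output of `B1b`, input of `B1a`). -/
structure FFc (T X0 L E : Subgroup X) : Prop where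
  mx : MaxW T X0
  ee : EE T X0 E
  XL : X0 ≤ L
  EL : E ≤ L
  LN : L ≤ 𝐍(X0)
  XZ : X0 ≤ 𝐂(Om T)
  EZ : E ≤ 𝐂(Om T)
  nN : ¬ L ≤ 𝐍(Om T)
  min : ∀ L' E' φ : Subgroup X, L' ≤ L → EE T X0 E' → X0 ≤ L' → E' ≤ L' → Pt T φ →
    X0 ≤ 𝐂(φ) → E' ≤ 𝐂(φ) → ¬ L' ≤ 𝐍(φ) → L' = L
  quad : ∀ v ∈ VL T L, ∀ e ∈ E, ∀ e' ∈ E, ⁅⁅v, e⁆, e'⁆ = 1

/-- Output of `B1a`, input of `B1c`. -/
structure Seed (T W P A : Subgroup X) (u z0 d : X) : Prop where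
  pP : IsPGroup 2 P
  WP : W ≤ P
  PN : P ≤ 𝐍(W)
  elW : El W
  cardW : Nat.card W = 4
  uW : u ∈ W
  u1 : u ≠ 1
  Pu : P ≤ 𝐂[u]
  AP : A ≤ P
  elA : El A
  cardA : KK T ≤ Nat.card A
  AW : ¬ A ≤ 𝐂(W)
  zZ : z0 ∈ Om T
  Pz : P ≤ 𝐂[z0]
  dN : d ∈ 𝐍(W)
  du : d ∉ 𝐂[u]
  dz : d ∈ 𝐂[z0 * u]
  max : ∀ D : Subgroup X, Bad T D → Nat.card (WB T D) ≤ Nat.card (WB T (P ⊓ 𝐂(W)))

/-- A vertex with its data.  `E = T ⊓ 𝐂(W)`, `𝒩 = T ⊓ 𝐍(W)`. -/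
structure VxD (T W : Subgroup X) (u : X) (H A0 : Subgroup X) (d z0 : X) : Prop where
  WT : W ≤ T
  elW : El W
  cardW : Nat.card W = 4
  uW : u ∈ W
  u1 : u ≠ 1
  Nu : T ⊓ 𝐍(W) ≤ 𝐂[u]
  HE : H ≤ 𝐍(T ⊓ 𝐂(W))
  HW : H ≤ 𝐍(W)
  NH : T ⊓ 𝐍(W) ≤ H
  two : ∀ D : Subgroup X, IsPGroup 2 D → D ≤ H → D ≤ 𝐂(W) → D ≤ T
  dH : d ∈ H
  du : d ∉ 𝐂[u]
  AN : A0 ≤ T ⊓ 𝐍(W)
  elA : El A0
  cardA : KK T ≤ Nat.card A0
  AW : ¬ A0 ≤ 𝐂(W)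
  zZ : z0 ∈ Om T
  Hz : H ≤ 𝐂[z0 * u]
  max : ∀ D : Subgroup X, Bad T D → Nat.card (WB T D) ≤ Nat.card (WB T (T ⊓ 𝐂(W)))

/-- A vertex. -/
def Vx (T W : Subgroup X) (u : X) : Prop :=
  ∃ (H A0 : Subgroup X) (d z0 : X), VxD T W u H A0 d z0

/-- (R1) No two distinct conjugates of `W` under `T ⊓ 𝐂[u]` commute. -/
def LC (T W : Subgroup X) (u : X) : Prop :=
  ∀ n ∈ T, n ∈ 𝐂[u] → n •ᶜ W ≤ 𝐂(W) → n ∈ 𝐍(W)

/-- (R2) In elementary abelian subgroups of `T ⊓ 𝐂[u]` the centralizer of `W` has index `≤ 2`. -/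
def IB (T W : Subgroup X) (u : X) : Prop :=
  ∀ A : Subgroup X, El A → A ≤ T → A ≤ 𝐂[u] → ∀ x ∈ A, ∀ y ∈ A,
    x ∉ 𝐂(W) → y ∉ 𝐂(W) → x * y ∈ 𝐂(W)

/-- (R3) Independence of `u` from its conjugates with the same weak closure. -/
def Ind (T : Subgroup X) (u : X) : Prop :=
  ∃ e : X, e ∉ 𝐂[u] ∧ ∀ s ∈ 𝐍(T), s * u * s⁻¹ ≠ u →
    WB T (T ⊓ 𝐂[s * u * s⁻¹]) = WB T (T ⊓ 𝐂[u]) → e ∈ 𝐂[s * u * s⁻¹]

end CfsgLib.CO
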