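import Cfsg.Agent.Lib.RC.Pure
import Cfsg.Agent.Lib.Sig.F4
import Cfsg.Agent.Lib.SE.Gen2
import Cfsg.Agent.Lib.CoreInvol

/-!
# A weakly closed elementary abelian subgroup of the centre of a Sylow `2`-subgroup
-/

set_option autoImplicit false

namespace CfsgLib.CO

open Subgroup Cfsg CfsgLib.FT CfsgLib.FT.BGN CfsgLib.GW
open CfsgLib.FT.U4 (mem_cent1 mem_cent1' mem_cent mem_cent1_comm self_mem_cent1 cent1_conj
  orderOf_conj cent_le_norm)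
open scoped commutatorElement

variable {G : Type*} [Group G] [Finite G] {T Z : Subgroup G}

/-- `Z` is an elementary abelian subgroup of the centre of the Sylow subgroup `T`. -/
structure ZT (T Z : Subgroup G) : Prop where
  syl : IsSylowIn 2 T ⊤
  le : Z ≤ T
  cent : T ≤ 𝐂(Z)
  sq : ∀ z ∈ Z, z * z = 1

namespace ZT

variable (h : ZT T Z)
include h

omit [Finite G] in
theorem le_cent1 {z : G} (hz : z ∈ Z) : T ≤ 𝐂[z] := h.cent.trans (U4.cent_le_cent1 hz)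

omit [Finite G] in
theorem ord {z : G} (hz : z ∈ Z) (h1 : z ≠ 1) : orderOf z = 2 :=
  orderOf_eq_prime (by rw [pow_two, h.sq z hz]) h1

omit [Finite G] in
theorem two : IsPGroup 2 Z := h.syl.isPGroup.to_le h.le

/-- uniqueness of the fixed point -/
theorem mem_of_conj_mem {M : Subgroup G} (hTM : T ≤ M) (hC : ∀ z ∈ Z, z ≠ 1 → 𝐂[z] ≤ M)
    (hf : ∀ z ∈ Z, ∀ g : G, g * z * g⁻¹ ∈ T → ∃ n ∈ M, n * z * n⁻¹ = g * z * g⁻¹)
    {z g : G} (hz : z ∈ Z) (h1 : z ≠ 1) (hg : g * z * g⁻¹ ∈ M) : g ∈ M := by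
  obtain ⟨m, hm, h2⟩ := (h.syl.mono hTM le_top).exists_conj_le
    (Invol.isPGroup_zpowers (Invol.conj_mul_self (h.sq z hz) g)) (zpowers_le.2 hg)
  have h3 : m * g * z * (m * g)⁻¹ ∈ T := by
    have := h2 ⟨_, mem_zpowers _, rfl⟩
    simpa [mul_assoc] using this
  obtain ⟨n, hn, h4⟩ := hf z hz _ h3
  have h5 : n⁻¹ * (m * g) ∈ 𝐂[z] := U4.mem_cent1_of_conj_eq (by
    calc n⁻¹ * (m * g) * z * (n⁻¹ * (m * g))⁻¹ = n⁻¹ * (m * g * z * (m * g)⁻¹) * n := by group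
      _ = z := by rw [← h4]; group)
  have h6 := mul_mem (inv_mem hm) (mul_mem hn (hC z hz h1 h5))
  simpa [mul_assoc] using h6

/-- the non-trivial elements of `Z` are conjugate -/
theorem one_class {M : Subgroup G} (hTM : T ≤ M) (hC : ∀ z ∈ Z, z ≠ 1 → 𝐂[z] ≤ M)
    (hf : ∀ z ∈ Z, ∀ g : G, g * z * g⁻¹ ∈ T → ∃ n ∈ M, n * z * n⁻¹ = g * z * g⁻¹)
    (hsc : ∀ z ∈ Z, ∀ g : G, g * z * g⁻¹ ∈ T → g * z * g⁻¹ ∈ Z)
    {z w g : G} (hz : z ∈ Z) (hz1 : z ≠ 1) (hw : w ∈ Z) (hw1 : w ≠ 1) (hg : g ∉ M) :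
    ∃ s : G, s * s = 1 ∧ s * z * s⁻¹ = g * w * g⁻¹ := by
  have hz2 := h.sq z hz
  have hy2 := Invol.conj_mul_self (h.sq w hw) g
  set y := g * w * g⁻¹ with hy
  by_cases hodd : Odd (orderOf (z * y))
  · exact Invol.exists_conj_of_odd hz2 hy2 hodd
  exfalso
  obtain ⟨k, m, ⟨j, rfl⟩, hkm⟩ := Nat.exists_eq_two_pow_mul_odd (orderOf_pos (z * y)).ne'
  have hinv := Invol.inverts_mul hz2 hy2
  set c := z * y with hc
  have hzi : z⁻¹ = z := Invol.inv_eq hz2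
  have hcj := Invol.inverts_of_mem_zpowers hinv (npow_mem_zpowers c j)
  have e1 : z * c ^ (2 * j + 1) = (c ^ j)⁻¹ * y * (c ^ j)⁻¹⁻¹ := by
    have e2 : y = z * c := by rw [hc, ← mul_assoc, hz2, one_mul]
    rw [inv_inv, e2]
    calc z * c ^ (2 * j + 1) = z * c ^ j * z⁻¹ * (z * c) * c ^ j := by group
      _ = _ := by rw [hcj]
  have hy' := Invol.conj_mul_self hy2 (c ^ j)⁻¹
  rw [← e1] at hy'
  have e3 : z * (z * c ^ (2 * j + 1)) = c ^ (2 * j + 1) := by rw [← mul_assoc, hz2, one_mul]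
  obtain ⟨Q, hQ1, hQ2⟩ := Invol.exists_sylow_of_isPGroup hz2 hy' (by
    rw [e3]
    refine IsPGroup.of_card (n := k) ?_
    rw [Nat.card_zpowers, orderOf_pow, hkm, Nat.gcd_mul_left_left,
      Nat.mul_div_cancel _ (by omega)])
  obtain ⟨x, -, hx⟩ := h.syl.exists_conj_le Q.isPGroup' le_top
  have hx1 : x * z * x⁻¹ ∈ Z := hsc z hz x (hx ⟨_, hQ1, rfl⟩)
  have hx2 : x * (z * c ^ (2 * j + 1)) * x⁻¹ ∈ Z := by
    have e4 : x * (z * c ^ (2 * j + 1)) * x⁻¹ = x * (c ^ j)⁻¹ * g * w * (x * (c ^ j)⁻¹ * g)⁻¹ := by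
      rw [e1, hy]; group
    have h1 : x * (z * c ^ (2 * j + 1)) * x⁻¹ ∈ T := hx ⟨_, hQ2, rfl⟩
    rw [e4] at h1 ⊢
    exact hsc w hw _ h1
  set u := c ^ (2 * j + 1) with hu
  have hx3 : x * u * x⁻¹ ∈ Z := by
    have := mul_mem hx1 hx2
    rwa [show x * z * x⁻¹ * (x * (z * u) * x⁻¹) = x * (z * (z * u)) * x⁻¹ by group, e3] at this
  have hu1 : u ≠ 1 := fun e => hodd (Odd.of_dvd_nat ⟨j, rfl⟩ (orderOf_dvd_of_pow_eq_one e))
  have hu2 : u * u = 1 := by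
    have := h.sq _ hx3
    rw [show x * u * x⁻¹ * (x * u * x⁻¹) = x * (u * u) * x⁻¹ by group] at this
    simpa using this
  have hui : u⁻¹ = u := Invol.inv_eq hu2
  have hzu : z * u * z⁻¹ = u :=
    (Invol.inverts_of_mem_zpowers hinv (npow_mem_zpowers c _)).trans hui
  have huM : u ∈ M := hC z hz hz1 (mem_cent1_comm.1 (U4.mem_cent1_of_conj_eq hzu))
  have hxM : x⁻¹ ∈ M := h.mem_of_conj_mem hTM hC hf hx3 (U4.conj_ne_one_iff.2 hu1)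
    (by simpa [mul_assoc] using huM)
  have hyu : y ∈ 𝐂[u] := by
    have e2 : y = z * c := by rw [hc, ← mul_assoc, hz2, one_mul]
    rw [e2]
    exact mul_mem (U4.mem_cent1_of_conj_eq hzu)
      (mem_cent1.2 ((Commute.refl c).pow_right _).eq)
  have hyM : x * y * x⁻¹ ∈ M := hC _ hx3 (U4.conj_ne_one_iff.2 hu1) (by
    rw [cent1_conj]
    exact U4.conj_mem_conj_iff.2 hyu)
  have hyM' : y ∈ M := by
    have := mul_mem (mul_mem hxM hyM) (inv_mem hxM)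
    simpa [mul_assoc] using this
  exact hg (h.mem_of_conj_mem hTM hC hf hw hw1 hyM')

/-- the signalizer functor `z ↦ O(C(z))` -/
def sf {k : ℕ} (hk : Nat.card Z = 2 ^ k) (h3 : 3 ≤ k)
    (hs : ∀ z ∈ Z, z ≠ 1 → Group.IsSolvable 𝐂[z]) : Sig.SF G where
  r := 2
  k := k
  A := Z
  θ := Ut
  prime := Nat.prime_two
  elem := ⟨le_centralizer_iff_isMulCommutative.1 (h.le.trans h.cent),
    fun a ha => by rw [pow_two, h.sq a ha]⟩
  card := hk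
  three_le := h3
  le_cent := fun a _ _ => Od_le _
  norm := fun a ha _ => (h.le.trans (h.le_cent1 ha)).trans (cent_le_norm_Ut a)
  cop := fun a _ _ => Nat.coprime_two_right.2 (odd_Ut a)
  solv := fun a _ _ => solvable_Ut a
  bal := fun a ha _ b hb hb1 => SE.le_piCoreOf_of_cent (R := zpowers a) (hs b hb hb1)
    (Invol.isPGroup_zpowers (h.sq a ha)) (zpowers_le.2 (h.le_cent1 hb (h.le ha))) inf_le_right
    (Nat.coprime_two_right.2 ((odd_Ut a).of_dvd_nat (card_dvd_of_le inf_le_left)))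
    (by rw [U4.cent_zpowers]; exact inf_le_left.trans (Od_le _))
    (by
      rw [U4.cent_zpowers]
      exact le_normalizer_inf (inf_le_right.trans (cent_le_norm_Ut a))
        (inf_le_left.trans le_normalizer))

theorem exists_over (h8 : 8 ≤ Nat.card Z) (hN : 𝐍(T) ≤ 𝐍(Z))
    (hs : ∀ z ∈ Z, z ≠ 1 → Group.IsSolvable 𝐂[z]) :
    ∃ W : Subgroup G, Odd (Nat.card W) ∧ 𝐍(T) ≤ 𝐍(W) ∧ ∀ z ∈ Z, z ≠ 1 → Ut z ≤ W := by
  obtain ⟨k, hk⟩ := h.two.exists_card_eq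
  have h3 : 3 ≤ k := (Nat.pow_le_pow_iff_right (by norm_num : 1 < 2)).1 (hk ▸ h8)
  obtain ⟨H, hH, hle⟩ := (h.sf hk h3 hs).complete
  let W : Subgroup G := ⨆ z ∈ {z | z ∈ Z ∧ z ≠ 1}, Ut z
  have hWH : W ≤ H := iSup₂_le fun z hz => hle z hz
  have hUW : ∀ z ∈ Z, z ≠ 1 → Ut z ≤ W := fun z hz h1 =>
    le_iSup₂_of_le (f := fun z (_ : z ∈ {z | z ∈ Z ∧ z ≠ 1}) => Ut z) z ⟨hz, h1⟩ le_rfl
  refine ⟨W, (Nat.coprime_two_right.1 hH.cop).of_dvd_nat (card_dvd_of_le hWH), fun n hn => ?_, hUW⟩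
  have h1 : n •ᶜ W ≤ W := by
    rw [map_le_iff_le_comap]
    refine iSup₂_le fun z hz => ?_
    rw [← map_le_iff_le_comap]
    have e : n •ᶜ Ut z = Ut (n * z * n⁻¹) := by rw [Ut, Ut, cent1_conj, Od_conj]
    exact e.le.trans (hUW _ (conj_mem_of_mem_normalizer (hN hn) hz.1) (U4.conj_ne_one_iff.2 hz.2))
  exact mem_normalizer_of_conj_mem fun x hx => h1 ⟨x, hx, rfl⟩

/-- control of fusion -/
theorem fusion (hwc : ∀ g : G, g •ᶜ Z ≤ T → g •ᶜ Z = Z) (hNZ : 𝐍(Z) ≤ Od 𝐍(Z) ⊔ 𝐍(T))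
    (hN : 𝐍(T) ≤ 𝐍(Z)) {z w g : G} (hz : z ∈ Z) (hw : w ∈ Z) (hg : g ∈ 𝐂[z])
    (hT : g * w * g⁻¹ ∈ T) : ∃ n ∈ 𝐍(T) ⊓ 𝐂[z], n * w * n⁻¹ = g * w * g⁻¹ := by
  have h1 : IsSylowIn 2 (g •ᶜ T) (𝐂[g * w * g⁻¹] ⊓ 𝐂[z]) := by
    refine (h.syl.map_conj_of_mem_normalizer (le_normalizer (mem_top g))).mono
      (le_inf ?_ ?_) le_top
    · rw [cent1_conj]
      exact map_mono (h.le_cent1 hw)
    · rw [← U4.conj_eq_of_mem hg]
      exact map_mono (h.le_cent1 hz)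
  obtain ⟨c, hc, h2⟩ := h1.exists_conj_le h.two (le_inf
    (fun v hv => mem_cent1_comm.1 (h.le_cent1 hv hT)) (h.le.trans (h.le_cent1 hz)))
  have h3 : g⁻¹ * c ∈ 𝐍(Z) := mem_normalizer_of_map_conj_eq (hwc _ (by
    rw [map_conj_mul]
    exact U4.le_conj_iff.1 h2))
  have h4 : Od 𝐍(Z) ≤ 𝐂(Z) := U4.le_cent_of_inf_eq_bot (Od_le _)
    (le_normalizer.trans (le_norm_Od _)) (Od_inf_eq_bot h.two)
  obtain ⟨o, ho, n, hn, e⟩ := (mem_sup_iff_of_le_normalizer' (hN.trans (le_norm_Od _))).1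
    (hNZ (inv_mem h3))
  have hnz : n ∈ 𝐂[z] := by
    have e1 : n = o⁻¹ * (c⁻¹ * g) := by rw [eq_inv_mul_iff_mul_eq, e]; group
    rw [e1]
    exact mul_mem (inv_mem (U4.cent_le_cent1 hz (h4 ho))) (mul_mem (inv_mem hc.2) hg)
  refine ⟨n, ⟨hn, hnz⟩, ?_⟩
  have h5 := h4 ho _ (conj_mem_of_mem_normalizer (hN hn) hw)
  have h6 := U4.conj_eq_of_mem_cent1 (inv_mem hc.1)
  calc n * w * n⁻¹ = o * (n * w * n⁻¹) * o⁻¹ := by rw [← h5]; group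
    _ = (o * n) * w * (o * n)⁻¹ := by group
    _ = c⁻¹ * (g * w * g⁻¹) * c⁻¹⁻¹ := by rw [e]; group
    _ = g * w * g⁻¹ := h6

end ZT

end CfsgLib.CO
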